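import Mathlib
import Cfsg.Agent.S0016
import Cfsg.Agent.H449.GroupCore
import Cfsg.Agent.OddOrderLocal.FpfSolvable
import Cfsg.Agent.Lib.NormalAbelian
import Cfsg.Agent.Lib.FastPerm
import Cfsg.Agent.FastGrp
import Cfsg.Agent.Prune
set_option linter.all false
prune_inst 0x7ffdfefbfff8addfffff7e7fafd4dffdf9f99ffff6dff9cbffe0ebffebdf6323abc5fbaf0fe498fcced6e0b410b87813fb7eeeffea6fdc7ffffdfff45ffbee1fe5ffb98951d4983e1fbc2ffef3f07fee7f3ffffffffcffffffffffffffffffffffffffffffff
open scoped Cfsg.Agent.FastGrp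

-- part: H220/SpecBasic
section
/-!
# Groups whose element orders are 1, 2, 3, 4, 6, 8, 13: basic facts
-/

set_option autoImplicit false

namespace Cfsg.Agent.H220.Spec

/-- The set of element orders. -/
abbrev Om : Set ℕ := {1, 2, 3, 4, 6, 8, 13}

theorem mem_Om {n : ℕ} : n ∈ Om ↔ n = 1 ∨ n = 2 ∨ n = 3 ∨ n = 4 ∨ n = 6 ∨ n = 8 ∨ n = 13 := by
  simp only [Om, _root_.Set.mem_insert_iff, _root_.Set.mem_singleton_iff]

variable {G : Type*} [Group G]

/-- An element of order 13 commutes with no nontrivial `13'`-element. -/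
theorem eq_one_of_comm (hΩ : ∀ g : G, orderOf g ∈ Om) {x y : G} (hx : orderOf x = 13)
    (hxy : x * y = y * x) (hy : ¬ 13 ∣ orderOf y) : y = 1 := by
  have h1 : orderOf (x * y) = orderOf x * orderOf y :=
    Commute.orderOf_mul_eq_mul_orderOf_of_coprime hxy
      (by rw [hx]; exact (Nat.Prime.coprime_iff_not_dvd (by norm_num)).mpr hy)
  have h2 := mem_Om.mp (hΩ (x * y))
  rw [h1, hx] at h2
  have h3 : orderOf y = 1 := by omega
  exact orderOf_eq_one_iff.mp h3

/-- An element of order 3 commutes with no element of order 4. -/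
theorem no_twelve (hΩ : ∀ g : G, orderOf g ∈ Om) {x y : G} (hx : orderOf x = 3)
    (hy : orderOf y = 4) (hxy : x * y = y * x) : False := by
  have h1 : orderOf (x * y) = orderOf x * orderOf y :=
    Commute.orderOf_mul_eq_mul_orderOf_of_coprime hxy (by rw [hx, hy]; norm_num)
  have h2 := mem_Om.mp (hΩ (x * y))
  rw [h1, hx, hy] at h2
  omega

theorem orderOf_eq_of_pGroup [Finite G] (hΩ : ∀ g : G, orderOf g ∈ Om) {M : Subgroup G}
    (hM : IsPGroup 13 M) {x : G} (hx : x ∈ M) (hx1 : x ≠ 1) : orderOf x = 13 := by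
  have : Fact (Nat.Prime 13) := ⟨by norm_num⟩
  obtain ⟨k, hk⟩ := IsPGroup.iff_orderOf.mp hM ⟨x, hx⟩
  rw [Subgroup.orderOf_mk] at hk
  have h2 := mem_Om.mp (hΩ x)
  rcases Nat.eq_zero_or_pos k with rfl | hk0
  · rw [pow_zero] at hk
    exact absurd (orderOf_eq_one_iff.mp hk) hx1
  · have h3 : 13 ∣ orderOf x := by rw [hk]; exact dvd_pow_self _ (by omega)
    (clear * - h2 h3; omega)

theorem pow_eq_one_of_pGroup [Finite G] (hΩ : ∀ g : G, orderOf g ∈ Om) {M : Subgroup G}
    (hM : IsPGroup 13 M) {x : G} (hx : x ∈ M) : x ^ 13 = 1 := by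
  by_cases hx1 : x = 1
  · rw [hx1, one_pow]
  · rw [← orderOf_eq_of_pGroup hΩ hM hx hx1]; exact pow_orderOf_eq_one x

/-- In a complement to a normal `13`-subgroup every order of a `13'`-element occurs. -/
theorem exists_orderOf_complement [Finite G] {M H : Subgroup G} [M.Normal] (hM : IsPGroup 13 M)
    (hMH : ∀ g : G, ∃ m ∈ M, ∃ h ∈ H, g = m * h) (hinf : ∀ g, g ∈ M → g ∈ H → g = 1) (g : G)
    (hg : ¬ 13 ∣ orderOf g) : ∃ h ∈ H, orderOf h = orderOf g := by
  have : Fact (Nat.Prime 13) := ⟨by norm_num⟩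
  obtain ⟨m, hm, h, hh, rfl⟩ := hMH g
  refine ⟨h, hh, ?_⟩
  have hq : ∀ n : ℕ, ((m * h : G) ^ n) * (h ^ n)⁻¹ ∈ M := by
    intro n
    have h1 : (QuotientGroup.mk' M) ((m * h : G) ^ n * (h ^ n)⁻¹) = 1 := by
      rw [map_mul, map_inv, map_pow, map_pow, map_mul,
        show (QuotientGroup.mk' M) m = 1 from (QuotientGroup.eq_one_iff m).mpr hm, one_mul,
        mul_inv_cancel]
    exact (QuotientGroup.eq_one_iff _).mp h1
  apply Nat.dvd_antisymm
  · rw [orderOf_dvd_iff_pow_eq_one]
    have h1 := hq (orderOf (m * h))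
    rw [pow_orderOf_eq_one, one_mul] at h1
    exact inv_eq_one.mp (hinf _ h1 (inv_mem (pow_mem hh _)))
  · rw [orderOf_dvd_iff_pow_eq_one]
    have h1 := hq (orderOf h)
    rw [pow_orderOf_eq_one, inv_one, mul_one] at h1
    obtain ⟨k, hk⟩ := IsPGroup.iff_orderOf.mp hM ⟨_, h1⟩
    rw [Subgroup.orderOf_mk] at hk
    have h2 : orderOf ((m * h) ^ orderOf h) ∣ orderOf (m * h) := orderOf_pow_dvd _
    rcases Nat.eq_zero_or_pos k with rfl | hk0
    · rw [pow_zero] at hk
      exact orderOf_eq_one_iff.mp hk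
    · exfalso
      apply hg
      refine dvd_trans ?_ h2
      rw [hk]
      exact dvd_pow_self _ (by omega)

/-- A fixed-point-free involution inverts. -/
theorem inverts {M : Subgroup G} [Finite G] [M.Normal] {t : G} (ht : t * t = 1)
    (hfix : ∀ m ∈ M, t * m * t⁻¹ = m → m = 1) :
    (∀ m ∈ M, t * m * t⁻¹ = m⁻¹) ∧ ∀ m ∈ M, ∀ n ∈ M, m * n = n * m := by
  have h1 : MonoidHom.FixedPointFree (MulAut.conjNormal t : M ≃* M) := by
    intro m hm
    apply Subtype.ext
    apply hfix m m.2
    have h2 := congrArg Subtype.val hm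
    rw [MulAut.conjNormal_apply] at h2
    exact h2
  have h2 : Function.Involutive (MulAut.conjNormal t : M ≃* M) := by
    intro m
    apply Subtype.ext
    rw [MulAut.conjNormal_apply, MulAut.conjNormal_apply]
    have ht' : t⁻¹ = t := inv_eq_of_mul_eq_one_right ht
    rw [ht']
    calc t * (t * (m : G) * t) * t = (t * t) * m * (t * t) := by group
      _ = m := by rw [ht]; group
  constructor
  · intro m hm
    have h3 := h1.coe_eq_inv_of_involutive h2
    have h4 := congrArg Subtype.val (congrFun h3 ⟨m, hm⟩)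
    rw [MulAut.conjNormal_apply] at h4
    exact h4
  · intro m hm n hn
    exact congrArg Subtype.val (h1.commute_all_of_involutive h2 ⟨m, hm⟩ ⟨n, hn⟩)

end Cfsg.Agent.H220.Spec
end

-- part: H220/BinOct
section
/-!
# Groups with a unique involution whose quotient by it is the symmetric group of degree four
-/

set_option autoImplicit false

namespace Cfsg.Agent.H220.BinOct

open Equiv

/-- The 4-cycle. -/
abbrev sg : Perm (Fin 4) := finRotate 4

/-- The 3-cycle. -/
abbrev ta : Perm (Fin 4) := swap 0 1 * swap 1 2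

theorem pf1 : ta * ta * ta = 1 := by decide
theorem pf2 : ta ≠ 1 := by decide
theorem pf3 : sg * sg * (sg * sg) = 1 := by decide
theorem pf4 : sg * sg ≠ 1 := by decide
theorem pf5 : ta * (ta * (sg * sg) * ta⁻¹) * ta⁻¹ = sg * sg * (ta * (sg * sg) * ta⁻¹) := by decide
theorem pf6 : sg * sg * (ta * (sg * sg) * ta⁻¹) ≠ 1 := by decide
theorem pf7 : sg * (ta * (sg * sg) * ta⁻¹) ≠ 1 := by decide
theorem pf8 : sg * (ta * (sg * sg) * ta⁻¹) * (sg * (ta * (sg * sg) * ta⁻¹)) = 1 := by decide
theorem pf9 : sg⁻¹ * (ta * (sg * sg) * ta⁻¹) ≠ 1 := by decide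
theorem pf10 : sg⁻¹ * (ta * (sg * sg) * ta⁻¹) * (sg⁻¹ * (ta * (sg * sg) * ta⁻¹)) = 1 := by decide
theorem pf11 : sg⁻¹ * sg⁻¹ = sg * sg := by decide
theorem pf12 : swap 2 (sg 2) = ta⁻¹ * sg := by decide

theorem closure_top (S : Subgroup (Perm (Fin 4))) (h1 : sg ∈ S) (h2 : ta ∈ S) : S = ⊤ := by
  have h3 := Equiv.Perm.closure_cycle_adjacent_swap (σ := sg) (isCycle_finRotate (n := 2))
    (support_finRotate (n := 2)) 2
  rw [eq_top_iff, ← h3, Subgroup.closure_le]
  intro g hg
  rcases hg with rfl | hg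
  · exact h1
  · rw [Set.mem_singleton_iff.mp hg, pf12]
    exact mul_mem (inv_mem h2) h1

variable {H : Type*} [Group H]

theorem exists_triple (z : H) (hz1 : z ≠ 1) (hz2 : z * z = 1)
    (huniq : ∀ g : H, g * g = 1 → g = 1 ∨ g = z) (φ : H →* Perm (Fin 4))
    (hφ : Function.Surjective φ) (hker : ∀ g, φ g = 1 ↔ g = 1 ∨ g = z) :
    ∃ x j ω : H, x * x * (x * x) = z ∧ j * j = z ∧ x * x * j * (x * x * j) = z ∧
      x * j * (x * j) = z ∧ ω * ω * ω = 1 ∧ ω ≠ 1 ∧ ω * (x * x) = j * ω ∧
      z * (x * x) * ω * (z * (x * x) * ω) * (z * (x * x) * ω) = 1 ∧ z * (x * x) * ω ≠ 1 ∧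
      ∀ S : Subgroup H, x ∈ S → ω ∈ S → S = ⊤ := by
  have hzi : z⁻¹ = z := inv_eq_iff_mul_eq_one.mpr hz2
  have hzc : ∀ g, g * z = z * g := by
    intro g
    have h1 : g * z * g⁻¹ * (g * z * g⁻¹) = 1 := by
      calc g * z * g⁻¹ * (g * z * g⁻¹) = g * (z * z) * g⁻¹ := by group
        _ = 1 := by rw [hz2]; group
    rcases huniq _ h1 with h | h
    · exfalso
      apply hz1
      calc z = g⁻¹ * (g * z * g⁻¹) * g := by group
        _ = 1 := by rw [h]; group
    · calc g * z = (g * z * g⁻¹) * g := by group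
        _ = z * g := by rw [h]
  have hsq : ∀ g, φ g ≠ 1 → φ g * φ g = 1 → g * g = z := by
    intro g h1 h2
    rw [← map_mul, hker] at h2
    rcases h2 with h | h
    · exact absurd ((hker g).mpr (huniq g h)) h1
    · exact h
  have hφz : φ z = 1 := (hker z).mpr (Or.inr rfl)
  -- the element of order three
  obtain ⟨ω, hω, hω3⟩ : ∃ ω, φ ω = ta ∧ ω * ω * ω = 1 := by
    obtain ⟨w, hw⟩ := hφ ta
    have h1 : φ (w * w * w) = 1 := by rw [map_mul, map_mul, hw, pf1]
    rcases (hker _).mp h1 with h | h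
    · exact ⟨w, hw, h⟩
    · refine ⟨w * z, by rw [map_mul, hw, hφz, mul_one], ?_⟩
      calc w * z * (w * z) * (w * z) = w * (z * w) * (z * w) * z := by group
        _ = w * (w * z) * (w * z) * z := by rw [hzc w]
        _ = w * w * (z * w) * z * z := by group
        _ = w * w * (w * z) * z * z := by rw [hzc w]
        _ = w * w * w * (z * z) * z := by group
        _ = 1 := by rw [h, hz2, mul_one, hz2]
  have hω1 : ω ≠ 1 := by
    rintro rfl
    rw [map_one] at hω
    exact pf2 hω.symm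
  -- the element of order eight
  obtain ⟨x, hx, hk⟩ : ∃ x, (φ x = sg ∨ φ x = sg⁻¹) ∧
      ω * (ω * (x * x) * ω⁻¹) * ω⁻¹ = x * x * (ω * (x * x) * ω⁻¹) := by
    obtain ⟨x, hx⟩ := hφ sg
    have h1 : φ (ω * (ω * (x * x) * ω⁻¹) * ω⁻¹ * (x * x * (ω * (x * x) * ω⁻¹))⁻¹) = 1 := by
      simp only [map_mul, map_inv, hω, hx]
      rw [pf5, mul_inv_cancel]
    rcases (hker _).mp h1 with h | h
    · exact ⟨x, Or.inl hx, mul_inv_eq_one.mp h⟩
    · refine ⟨x⁻¹, Or.inr (by rw [map_inv, hx]), ?_⟩
      have h2 : ω * (ω * (x * x) * ω⁻¹) * ω⁻¹ = z * (x * x * (ω * (x * x) * ω⁻¹)) := by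
        rw [← h]; group
      have h3 : x * x * (x * x) = z := by
        apply hsq
        · rw [map_mul, hx]; exact pf4
        · simp only [map_mul, hx]; exact pf3
      have h4 : x⁻¹ * x⁻¹ = z * (x * x) := by
        have h5 : x⁻¹ * x⁻¹ = (x * x * (x * x))⁻¹ * (x * x) := by group
        rw [h5, h3, hzi]
      rw [h4]
      have h6 : ω * (z * (x * x)) * ω⁻¹ = z * (ω * (x * x) * ω⁻¹) := by
        calc ω * (z * (x * x)) * ω⁻¹ = (ω * z) * (x * x) * ω⁻¹ := by group
          _ = (z * ω) * (x * x) * ω⁻¹ := by rw [hzc]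
          _ = z * (ω * (x * x) * ω⁻¹) := by group
      rw [h6]
      have h7 : ω * (z * (ω * (x * x) * ω⁻¹)) * ω⁻¹ = z * (ω * (ω * (x * x) * ω⁻¹) * ω⁻¹) := by
        calc ω * (z * (ω * (x * x) * ω⁻¹)) * ω⁻¹ = (ω * z) * (ω * (x * x) * ω⁻¹) * ω⁻¹ := by group
          _ = (z * ω) * (ω * (x * x) * ω⁻¹) * ω⁻¹ := by rw [hzc]
          _ = z * (ω * (ω * (x * x) * ω⁻¹) * ω⁻¹) := by group
      rw [h7, h2]
      calc z * (z * (x * x * (ω * (x * x) * ω⁻¹))) =
          z * (z * (x * x)) * (ω * (x * x) * ω⁻¹) := by group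
        _ = z * ((x * x) * z) * (ω * (x * x) * ω⁻¹) := by rw [hzc (x * x)]
        _ = z * (x * x) * (z * (ω * (x * x) * ω⁻¹)) := by group
  have hφi : φ (x * x) = sg * sg := by
    rcases hx with h | h
    · rw [map_mul, h]
    · rw [map_mul, h, pf11]
  set i := x * x with hi
  set j := ω * i * ω⁻¹ with hj
  have hφj : φ j = ta * (sg * sg) * ta⁻¹ := by
    rw [hj, map_mul, map_mul, map_inv, hω, hφi]
  have hii : i * i = z := by
    apply hsq
    · rw [hφi]; exact pf4
    · rw [hφi]; exact pf3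
  have hωi : ω * i = j * ω := by rw [hj]; group
  have hωj : ω * j = i * j * ω := by rw [← hk]; group
  have hjj : j * j = z := by
    calc j * j = ω * (i * i) * ω⁻¹ := by rw [hj]; group
      _ = (ω * z) * ω⁻¹ := by rw [hii]
      _ = (z * ω) * ω⁻¹ := by rw [hzc]
      _ = z := by group
  have hij : i * j * (i * j) = z := by
    apply hsq
    · rw [map_mul, hφi, hφj]; exact pf6
    · have h1 : φ (i * j) = φ (ω * j * ω⁻¹) := by rw [hωj]; congr 1; group
      have h2 : φ (ω * j * ω⁻¹) * φ (ω * j * ω⁻¹) = φ (ω * (j * j) * ω⁻¹) := by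
        rw [← map_mul]; congr 1; group
      rw [h1, h2, hjj, map_mul, map_mul, hφz, mul_one, map_inv, mul_inv_cancel]
  have hxj : x * j * (x * j) = z := by
    apply hsq
    · rw [map_mul, hφj]
      rcases hx with h | h
      · rw [h]; exact pf7
      · rw [h]; exact pf9
    · rw [map_mul, hφj]
      rcases hx with h | h
      · rw [h]; exact pf8
      · rw [h]; exact pf10
  have hcube : z * i * ω * (z * i * ω) * (z * i * ω) = 1 := by
    calc z * i * ω * (z * i * ω) * (z * i * ω) =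
        z * (i * ω * z) * (i * ω * z) * (i * ω) := by group
      _ = z * (z * (i * ω)) * (z * (i * ω)) * (i * ω) := by rw [hzc (i * ω)]
      _ = (z * z) * (i * ω * z) * i * ω * i * ω := by group
      _ = (z * z) * (z * (i * ω)) * i * ω * i * ω := by rw [hzc (i * ω)]
      _ = (z * z) * z * i * (ω * i) * (ω * i) * ω := by group
      _ = (z * z) * z * i * (j * ω) * (j * ω) * ω := by rw [hωi]
      _ = (z * z) * z * i * j * (ω * j) * ω * ω := by group
      _ = (z * z) * z * i * j * (i * j * ω) * ω * ω := by rw [hωj]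
      _ = (z * z) * z * (i * j * (i * j)) * (ω * ω * ω) := by group
      _ = 1 := by rw [hz2, hij, hω3, one_mul, hz2, one_mul]
  refine ⟨x, j, ω, hii, hjj, hij, hxj, hω3, hω1, hωi, hcube, ?_, ?_⟩
  · intro h
    have h1 : φ (z * i * ω) = 1 := by rw [h, map_one]
    rw [map_mul, map_mul, hφz, hφi, hω] at h1
    revert h1
    decide
  · intro S hxS hωS
    have h1 : S.map φ = ⊤ := by
      apply closure_top
      · rcases hx with h | h
        · exact ⟨x, hxS, h⟩
        · exact ⟨x⁻¹, inv_mem hxS, by rw [map_inv, h, inv_inv]⟩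
      · exact ⟨ω, hωS, hω⟩
    have hzS : z ∈ S := by
      rw [← hii]
      exact mul_mem (mul_mem hxS hxS) (mul_mem hxS hxS)
    rw [eq_top_iff]
    intro g _
    have h2 : φ g ∈ S.map φ := by rw [h1]; trivial
    obtain ⟨s, hs, hsg⟩ := h2
    have h3 : φ (s⁻¹ * g) = 1 := by rw [map_mul, map_inv, hsg, inv_mul_cancel]
    have h4 : g = s * (s⁻¹ * g) := by group
    rw [h4]
    refine mul_mem hs ?_
    rcases (hker _).mp h3 with h | h
    · rw [h]; exact one_mem _
    · rw [h]; exact hzS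

end Cfsg.Agent.H220.BinOct
end

-- part: H220/BinOctHom
section
/-!
# The binary octahedral group: the homomorphism onto the symmetric group of degree four
-/

set_option autoImplicit false

namespace Cfsg.Agent.H220.BinOct

open Equiv

/-- A power of prescribed order. -/
theorem exists_pow_orderOf {H : Type*} [Group H] [Finite H] (g : H) {n : ℕ} (hn : n ∣ orderOf g) :
    ∃ k : ℕ, orderOf (g ^ k) = n := by
  obtain ⟨k, hk⟩ := hn
  have hk0 : k ≠ 0 := by
    rintro rfl
    exact (orderOf_pos g).ne' (by rw [hk, mul_zero])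
  refine ⟨k, ?_⟩
  rw [orderOf_pow_of_dvd hk0 ⟨n, by rw [hk, mul_comm]⟩, hk,
    Nat.mul_div_cancel _ (Nat.pos_of_ne_zero hk0)]

/-- The Sylow 2-subgroups have order at most 16. -/
theorem card_two_group_le {T : Type*} [Group T] [Finite T] (hT : IsPGroup 2 T)
    (huniq : ∀ g h : T, g * g = 1 → h * h = 1 → g ≠ 1 → h ≠ 1 → g = h)
    (h16 : ∀ g : T, orderOf g ≠ 16) : Nat.card T ∣ 16 := by
  have : Fact (Nat.Prime 2) := ⟨Nat.prime_two⟩
  obtain ⟨n, hn⟩ := IsPGroup.iff_card.mp hT
  have h1 : ∀ H K : Subgroup T, Nat.card H = 2 → Nat.card K = 2 → H ≤ K := by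
    intro H K hH hK g hg
    by_cases hg1 : g = 1
    · rw [hg1]; exact one_mem _
    obtain ⟨k, hk⟩ := exists_prime_orderOf_dvd_card' (G := K) 2 (dvd_of_eq hK.symm)
    have hk1 : (k : T) ≠ 1 := by
      intro h
      have h2 : k = 1 := Subtype.ext h
      rw [h2, orderOf_one] at hk
      exact absurd hk (by norm_num)
    have hk2 : (k : T) * k = 1 := by
      have h2 : k ^ 2 = 1 := by rw [← hk]; exact pow_orderOf_eq_one k
      rw [pow_two] at h2
      exact congrArg Subtype.val h2
    have hg2 : g * g = 1 := by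
      have h2 : (⟨g, hg⟩ : H) ^ Nat.card H = 1 := pow_card_eq_one'
      rw [hH, pow_two] at h2
      exact congrArg Subtype.val h2
    rw [huniq g k hg2 hk2 hg1 hk1]
    exact k.2
  have hbound : ∀ (g : T) (m : ℕ), orderOf g = 2 ^ m → m ≤ 3 := by
    intro g m hm
    by_contra hlt
    push Not at hlt
    obtain ⟨k, hk⟩ := exists_pow_orderOf g (n := 16)
      (by rw [hm]; exact pow_dvd_pow 2 (show 4 ≤ m by omega))
    exact h16 _ hk
  rcases Cfsg.Agent.S0016.result 2 hT (fun H K hH hK => le_antisymm (h1 H K hH hK) (h1 K H hK hH))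
    with hcyc | ⟨-, m, ⟨e⟩⟩
  · obtain ⟨g, hg⟩ := hcyc.exists_ofOrder_eq_natCard
    rw [hn] at hg
    have h2 := hbound g n hg
    rw [hn]
    exact pow_dvd_pow 2 (show n ≤ 4 by omega)
  · have h2 : orderOf (e.symm (QuaternionGroup.a 1)) = 2 ^ (m + 1) := by
      rw [MulEquiv.orderOf_eq, QuaternionGroup.orderOf_a_one, pow_succ, mul_comm]
    have h3 := hbound _ _ h2
    have h4 : Nat.card T = 2 ^ (m + 2) := by
      rw [Nat.card_congr e.toEquiv, Nat.card_eq_fintype_card, QuaternionGroup.card]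
      ring
    rw [h4]
    exact pow_dvd_pow 2 (show m + 2 ≤ 4 by omega)

theorem conj_of_order_three {H : Type*} [Group H] {g r : H} (hr : orderOf r = 3)
    (h : g * r * g⁻¹ ∈ Subgroup.zpowers r) : g * r * g⁻¹ = r ∨ g * r * g⁻¹ = r⁻¹ := by
  classical
  have hfin : IsOfFinOrder r := orderOf_pos_iff.mp (by rw [hr]; norm_num)
  rw [← hfin.mem_powers_iff_mem_zpowers, hfin.mem_powers_iff_mem_range_orderOf, hr] at h
  obtain ⟨k, hk, hk2⟩ := Finset.mem_image.mp h
  have hr3 : r ^ 3 = 1 := by rw [← hr]; exact pow_orderOf_eq_one r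
  rw [Finset.mem_range] at hk
  interval_cases k
  · exfalso
    rw [pow_zero] at hk2
    have h1 : r = 1 := by
      calc r = g⁻¹ * (g * r * g⁻¹) * g := by group
        _ = 1 := by rw [← hk2]; group
    rw [h1, orderOf_one] at hr
    exact absurd hr (by norm_num)
  · left
    rw [← hk2, pow_one]
  · right
    rw [← hk2, eq_inv_iff_mul_eq_one, ← pow_succ]
    exact hr3

set_option maxRecDepth 20000 in
theorem perm_sq_ne (p : Perm (Fin 4)) : p * p * (p * p) = 1 → p * p ≠ 1 → Perm.sign p = -1 := by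
  revert p
  (set_option synthInstance.maxSize 9000 in open scoped Cfsg.Agent.Lib.FastPerm in decide +kernel)

variable {H : Type*} [Group H] [Finite H]

theorem exists_hom (z : H) (hz1 : z ≠ 1) (hz2 : z * z = 1)
    (huniq : ∀ g : H, g * g = 1 → g = 1 ∨ g = z) {a : ℕ} (hcard : Nat.card H = 2 ^ a * 3)
    (h8 : ∃ g : H, orderOf g = 8) (h12 : ∀ g : H, orderOf g ≠ 12)
    (h16 : ∀ g : H, orderOf g ≠ 16) :
    ∃ φ : H →* Perm (Fin 4), Function.Surjective φ ∧ ∀ g, φ g = 1 ↔ g = 1 ∨ g = z := by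
  classical
  have : Fact (Nat.Prime 2) := ⟨Nat.prime_two⟩
  have : Fact (Nat.Prime 3) := ⟨Nat.prime_three⟩
  have hzc : ∀ g, g * z = z * g := by
    intro g
    have h1 : g * z * g⁻¹ * (g * z * g⁻¹) = 1 := by
      calc g * z * g⁻¹ * (g * z * g⁻¹) = g * (z * z) * g⁻¹ := by group
        _ = 1 := by rw [hz2]; group
    rcases huniq _ h1 with h | h
    · exfalso
      apply hz1
      calc z = g⁻¹ * (g * z * g⁻¹) * g := by group
        _ = 1 := by rw [h]; group
    · calc g * z = (g * z * g⁻¹) * g := by group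
        _ = z * g := by rw [h]
  -- no element of order 4 commutes with one of order 3
  have hcomm : ∀ g r : H, orderOf g = 4 → orderOf r = 3 → g * r = r * g → False := by
    intro g r hg hr hgr
    have h1 : orderOf (g * r) = orderOf g * orderOf r :=
      Commute.orderOf_mul_eq_mul_orderOf_of_coprime hgr (by rw [hg, hr]; norm_num)
    rw [hg, hr] at h1
    exact h12 _ h1
  -- the order of `H`
  have ha : a ≤ 4 ∧ 3 ≤ a := by
    constructor
    · obtain ⟨T⟩ : Nonempty (Sylow 2 H) := inferInstance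
      have h1 : Nat.card T = 2 ^ a := by
        rw [T.card_eq_multiplicity, hcard]
        congr 1
        rw [Nat.factorization_mul (by positivity) (by norm_num)]
        simp only [Nat.Prime.factorization Nat.prime_three, Nat.prime_two.factorization_self, _root_.Nat.factorization_pow, _root_.Finsupp.coe_add, _root_.Finsupp.coe_smul, _root_.nsmul_eq_mul, _root_.Pi.add_apply, _root_.Pi.mul_apply, _root_.Pi.natCast_apply, _root_.Nat.cast_id, _root_.mul_one, _root_.ne_eq, _root_.Nat.reduceEqDiff, _root_.not_false_eq_true, _root_.Finsupp.single_eq_of_ne, _root_.add_zero]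
      have h2 : Nat.card T ∣ 16 := by
        apply card_two_group_le T.isPGroup'
        · intro g h hg hh hg1 hh1
          rcases huniq (g : H) (congrArg Subtype.val hg) with h1 | h1
          · exact absurd (Subtype.ext h1) hg1
          · rcases huniq (h : H) (congrArg Subtype.val hh) with h2 | h2
            · exact absurd (Subtype.ext h2) hh1
            · exact Subtype.ext (h1.trans h2.symm)
        · intro g hg
          rw [← Subgroup.orderOf_coe] at hg
          exact h16 _ hg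
      rw [h1, show 16 = 2 ^ 4 by norm_num, Nat.pow_dvd_pow_iff_le_right (by norm_num)] at h2
      exact h2
    · obtain ⟨g, hg⟩ := h8
      have h1 : 8 ∣ 2 ^ a * 3 := by
        rw [← hg, ← hcard]; exact orderOf_dvd_natCard g
      have h2 : 8 ∣ 2 ^ a := Nat.Coprime.dvd_of_dvd_mul_right (by norm_num) h1
      rw [show 8 = 2 ^ 3 by norm_num, Nat.pow_dvd_pow_iff_le_right (by norm_num)] at h2
      exact h2
  -- Sylow 3-subgroups
  have hR : ∀ R : Sylow 3 H, Nat.card R = 3 := by
    intro R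
    rw [R.card_eq_multiplicity, hcard, Nat.factorization_mul (by positivity) (by norm_num)]
    simp [Nat.prime_three.factorization_self, Nat.Prime.factorization Nat.prime_two]
  have hzorder : orderOf z = 2 := orderOf_eq_prime (by rw [pow_two, hz2]) hz1
  obtain ⟨R⟩ : Nonempty (Sylow 3 H) := inferInstance
  have hgen : ∀ R : Sylow 3 H, ∃ r : H, orderOf r = 3 ∧ (R : Subgroup H) = Subgroup.zpowers r := by
    intro R
    obtain ⟨r, hr⟩ := exists_prime_orderOf_dvd_card' (G := R) 3 (dvd_of_eq (hR R).symm)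
    rw [← Subgroup.orderOf_coe] at hr
    refine ⟨r, hr, ?_⟩
    symm
    apply Subgroup.eq_of_le_of_card_ge
    · rw [Subgroup.zpowers_le]; exact r.2
    · rw [Nat.card_zpowers, hr]; exact (hR R).le
  have hpow4 : ∀ g : H, 4 ∣ orderOf g → ∃ k : ℕ, orderOf (g ^ k) = 4 :=
    fun g hg => exists_pow_orderOf g hg
  have hn3 : Nat.card (Sylow 3 H) = 4 := by
    have h1 : Nat.card (Sylow 3 H) ≡ 1 [MOD 3] := card_sylow_modEq_one 3 H
    have h2 : Nat.card (Sylow 3 H) ≠ 1 := by
      intro h1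
      obtain ⟨hsub, -⟩ := Nat.card_eq_one_iff_unique.mp h1
      obtain ⟨g, hg⟩ := h8
      obtain ⟨r, hr, hRr⟩ := hgen R
      have h3 : g * r * g⁻¹ ∈ Subgroup.zpowers r := by
        have h4 : g • R = R := Subsingleton.elim _ _
        rw [Sylow.smul_eq_iff_mem_normalizer] at h4
        change g ∈ Subgroup.normalizer ((R : Subgroup H) : Set H) at h4
        rw [Subgroup.mem_normalizer_iff] at h4
        have h5 := (h4 r).mp (by rw [hRr]; exact Subgroup.mem_zpowers r)
        rwa [hRr] at h5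
      have h4 : g * (g * r * g⁻¹) * g⁻¹ = r := by
        rcases conj_of_order_three hr h3 with h | h
        · rw [h, h]
        · rw [h]
          calc g * r⁻¹ * g⁻¹ = (g * r * g⁻¹)⁻¹ := by group
            _ = r := by rw [h, inv_inv]
      apply hcomm (g ^ 2) r ?_ hr ?_
      · rw [orderOf_pow_of_dvd (by norm_num) (by rw [hg]; norm_num), hg]
      · rw [pow_two]
        calc g * g * r = (g * (g * r * g⁻¹) * g⁻¹) * (g * g) := by group
          _ = r * (g * g) := by rw [h4]
    have h3 : 6 ∣ Nat.card (Subgroup.normalizer ((R : Subgroup H) : Set H)) := by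
      obtain ⟨r, hr, hRr⟩ := hgen R
      have h4 : z ∈ Subgroup.normalizer ((R : Subgroup H) : Set H) := by
        rw [Subgroup.mem_normalizer_iff]
        intro h
        have h5 : z * h * z⁻¹ = h := by rw [← hzc]; group
        rw [h5]
      have h5 : r ∈ Subgroup.normalizer ((R : Subgroup H) : Set H) :=
        Subgroup.le_normalizer (by rw [hRr]; exact Subgroup.mem_zpowers r)
      have h6 : 2 ∣ Nat.card (Subgroup.normalizer ((R : Subgroup H) : Set H)) := by
        have := orderOf_dvd_natCard (⟨z, h4⟩ : Subgroup.normalizer ((R : Subgroup H) : Set H))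
        rwa [Subgroup.orderOf_mk, hzorder] at this
      have h7 : 3 ∣ Nat.card (Subgroup.normalizer ((R : Subgroup H) : Set H)) := by
        have := orderOf_dvd_natCard (⟨r, h5⟩ : Subgroup.normalizer ((R : Subgroup H) : Set H))
        rwa [Subgroup.orderOf_mk, hr] at this
      exact Nat.Coprime.mul_dvd_of_dvd_of_dvd (by norm_num) h6 h7
    have h4 : Nat.card (Sylow 3 H) * Nat.card (Subgroup.normalizer ((R : Subgroup H) : Set H)) =
        2 ^ a * 3 := by
      rw [R.card_eq_index_normalizer, ← hcard]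
      exact Subgroup.index_mul_card _
    obtain ⟨m, hm⟩ := h3
    rw [hm] at h4
    have h5 : Nat.card (Sylow 3 H) ∣ 2 ^ (a - 1) := by
      refine ⟨m, ?_⟩
      have h6 : 2 ^ a = 2 * 2 ^ (a - 1) := by
        rw [← pow_succ']; congr 1; omega
      rw [h6] at h4
      linarith only [h4]
    obtain ⟨b, hb, hb2⟩ := (Nat.dvd_prime_pow Nat.prime_two).mp h5
    have hb3 : b ≤ 3 := by omega
    rw [hb2] at h1 h2 ⊢
    interval_cases b
    · exact absurd rfl h2
    · exact absurd h1 (by decide)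
    · rfl
    · exact absurd h1 (by decide)
  -- the action on the Sylow 3-subgroups
  let e : Sylow 3 H ≃ Fin 4 := Finite.equivFinOfCardEq hn3
  let ψ : H →* Perm (Sylow 3 H) := MulAction.toPermHom H (Sylow 3 H)
  let φ : H →* Perm (Fin 4) := e.permCongrHom.toMonoidHom.comp ψ
  have hφψ : ∀ g, φ g = 1 ↔ ∀ P : Sylow 3 H, g • P = P := by
    intro g
    have h1 : φ g = 1 ↔ ψ g = 1 := by
      change e.permCongrHom (ψ g) = 1 ↔ _
      rw [map_eq_one_iff _ e.permCongrHom.injective]
    rw [h1, Equiv.ext_iff]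
    rfl
  have h3L : ∀ r, orderOf r = 3 → φ r ≠ 1 := by
    intro r hr h1
    rw [hφψ] at h1
    have h2 : ∀ P : Sylow 3 H, (P : Subgroup H) = Subgroup.zpowers r := by
      intro P
      have h3 := h1 P
      rw [Sylow.smul_eq_iff_mem_normalizer] at h3
      have h4 : IsPGroup 3 (Subgroup.zpowers r) :=
        IsPGroup.of_card (n := 1) (by rw [Nat.card_zpowers, hr, pow_one])
      have h5 := h4.inf_normalizer_sylow P
      symm
      apply Subgroup.eq_of_le_of_card_ge
      · rw [Subgroup.zpowers_le]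
        have h6 : r ∈ Subgroup.zpowers r ⊓ (P : Subgroup H) := by
          rw [← h5]
          exact ⟨Subgroup.mem_zpowers r, h3⟩
        exact h6.2
      · rw [Nat.card_zpowers, hr]; exact (hR P).le
    have h3 : Nat.card (Sylow 3 H) = 1 := by
      rw [Nat.card_eq_one_iff_unique]
      exact ⟨⟨fun P Q => Sylow.ext ((h2 P).trans (h2 Q).symm)⟩, ⟨R⟩⟩
    omega
  have hker : ∀ g, φ g = 1 ↔ g = 1 ∨ g = z := by
    intro g
    constructor
    · intro hg
      by_contra hne
      push Not at hne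
      have hgg : g * g ≠ 1 := fun h => (huniq g h).elim hne.1 hne.2
      -- `g` has order a power of two
      have h1 : ∀ k : ℕ, φ (g ^ k) = 1 := fun k => by rw [map_pow, hg, one_pow]
      have h2 : ¬ 3 ∣ orderOf g := by
        intro h
        obtain ⟨k, hk⟩ := exists_pow_orderOf g h
        exact h3L _ hk (h1 k)
      have h3 : orderOf g ∣ 2 ^ a := by
        have h4 : orderOf g ∣ 2 ^ a * 3 := by rw [← hcard]; exact orderOf_dvd_natCard g
        exact Nat.Coprime.dvd_of_dvd_mul_right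
          ((Nat.Prime.coprime_iff_not_dvd Nat.prime_three).mpr h2).symm h4
      obtain ⟨b, hb, hb2⟩ := (Nat.dvd_prime_pow Nat.prime_two).mp h3
      have h4 : 4 ∣ orderOf g := by
        rw [hb2, show 4 = 2 ^ 2 by norm_num]
        apply pow_dvd_pow
        by_contra hlt
        push Not at hlt
        apply hgg
        rw [← pow_two]
        apply orderOf_dvd_iff_pow_eq_one.mp
        rw [hb2]
        conv_rhs => rw [← pow_one 2]
        exact pow_dvd_pow 2 (by omega)
      obtain ⟨k, hk⟩ := exists_pow_orderOf g h4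
      obtain ⟨r, hr, hRr⟩ := hgen R
      refine hcomm (g ^ k) r hk hr ?_
      -- the commutator lies in the kernel and in `R`
      set g' := g ^ k with hg'
      have h5 : g' ∈ Subgroup.normalizer ((R : Subgroup H) : Set H) := by
        have h6 := (hφψ g').mp (h1 k) R
        rwa [Sylow.smul_eq_iff_mem_normalizer] at h6
      have h6 : g' * r * g'⁻¹ ∈ (R : Subgroup H) :=
        (Subgroup.mem_normalizer_iff.mp h5 r).mp (by rw [hRr]; exact Subgroup.mem_zpowers r)
      have h7 : g' * r * g'⁻¹ * r⁻¹ = 1 := by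
        by_contra hne1
        have h8 : g' * r * g'⁻¹ * r⁻¹ ∈ (R : Subgroup H) :=
          mul_mem h6 (inv_mem (by rw [hRr]; exact Subgroup.mem_zpowers r))
        have h9 : orderOf (g' * r * g'⁻¹ * r⁻¹) = 3 := by
          have h10 := Subgroup.orderOf_dvd_natCard _ h8
          rw [show Nat.card (R : Subgroup H) = 3 from hR R] at h10
          exact ((Nat.dvd_prime Nat.prime_three).mp h10).resolve_left
            (fun h => hne1 (orderOf_eq_one_iff.mp h))
        apply h3L _ h9
        rw [map_mul, map_mul, map_mul, h1 k, map_inv, map_inv, h1 k]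
        group
      calc g' * r = (g' * r * g'⁻¹ * r⁻¹) * (r * g') := by group
        _ = r * g' := by rw [h7, one_mul]
    · rintro (rfl | rfl)
      · exact map_one φ
      · rw [hφψ]
        intro P
        rw [Sylow.smul_eq_iff_mem_normalizer]
        change g ∈ Subgroup.normalizer ((P : Subgroup H) : Set H)
        rw [Subgroup.mem_normalizer_iff]
        intro h
        have h5 : g * h * g⁻¹ = h := by rw [← hzc]; group
        rw [h5]
  refine ⟨φ, ?_, hker⟩
  -- surjectivity
  have hkcard : Nat.card φ.ker = 2 := by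
    have h1 : φ.ker = Subgroup.zpowers z := by
      ext g
      rw [MonoidHom.mem_ker, hker]
      constructor
      · rintro (rfl | rfl)
        · exact one_mem _
        · exact Subgroup.mem_zpowers g
      · intro h
        apply huniq
        have h2 := Subgroup.orderOf_dvd_natCard _ h
        rw [Nat.card_zpowers, hzorder, orderOf_dvd_iff_pow_eq_one, pow_two] at h2
        exact h2
    rw [h1, Nat.card_zpowers, hzorder]
  have hcr : Nat.card φ.range * 2 = 2 ^ a * 3 := by
    rw [← hcard, ← hkcard, ← Subgroup.index_ker]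
    exact Subgroup.index_mul_card _
  have hidx : φ.range.index * Nat.card φ.range = 24 := by
    rw [Subgroup.index_mul_card, Nat.card_eq_fintype_card, Fintype.card_perm]
    rfl
  rw [← MonoidHom.range_eq_top]
  have ha3 : a = 3 ∨ a = 4 := by omega
  rcases ha3 with rfl | rfl
  · exfalso
    have h1 : φ.range.index = 2 := by
      have h2 : Nat.card φ.range = 12 := by omega
      rw [h2] at hidx
      omega
    have h2 := Equiv.Perm.eq_alternatingGroup_of_index_eq_two h1
    obtain ⟨g, hg⟩ := h8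
    have h3 : φ g ∈ alternatingGroup (Fin 4) := by rw [← h2]; exact ⟨g, rfl⟩
    rw [Equiv.Perm.mem_alternatingGroup] at h3
    have h4 : Perm.sign (φ g) = -1 := by
      apply perm_sq_ne
      · have h5 : g ^ 4 * g ^ 4 = 1 := by
          rw [← pow_add, show 4 + 4 = orderOf g from hg.symm]; exact pow_orderOf_eq_one g
        have h6 : φ (g ^ 4) = 1 := (hker _).mpr (huniq _ h5)
        rw [← h6, ← map_mul, ← map_mul]
        congr 1
        simp only [pow_succ, pow_zero, one_mul, mul_assoc]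
      · rw [← map_mul]
        intro h5
        rcases (hker _).mp h5 with h | h
        · have h6 := orderOf_dvd_of_pow_eq_one (n := 2) (by rw [pow_two, h] : g ^ 2 = 1)
          rw [hg] at h6
          exact absurd h6 (by norm_num)
        · have h7 : g ^ 4 = 1 := by
            calc g ^ 4 = (g * g) * (g * g) := by
                  simp only [pow_succ, pow_zero, one_mul, mul_assoc]
              _ = 1 := by rw [h, hz2]
          have h6 := orderOf_dvd_of_pow_eq_one h7
          rw [hg] at h6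
          exact absurd h6 (by norm_num)
    rw [h3] at h4
    exact absurd h4 (by decide)
  · rw [← Subgroup.index_eq_one]
    have h2 : Nat.card φ.range = 24 := by omega
    rw [h2] at hidx
    omega

end Cfsg.Agent.H220.BinOct
end

-- part: H220/ModFour
section
/-!
# Faithful modules of the binary octahedral group in characteristic 13
-/

set_option autoImplicit false

namespace Cfsg.Agent.H220.ModFour

open Equiv

section Ring

variable {R : Type*} [Ring R]

/-- The relations of the binary octahedral group determine the action of the element of order 3. -/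
theorem two_mul_eq (I J W : R) (hI : I * I = -1) (hJ : J * J = -1) (hIJ : I * J * (I * J) = -1)
    (hW : W * W + W + 1 = 0) (hWI : W * I = J * W) (hIW : I * W * (I * W) - I * W + 1 = 0) :
    W * 2 = -(1 + I + J + I * J) := by
  have h1 : J * I * J = I := by
    have h : I * (J * I * J) = -1 := by rw [← hIJ]; noncomm_ring
    calc J * I * J = -((I * I) * (J * I * J)) := by rw [hI]; noncomm_ring
      _ = -(I * (I * (J * I * J))) := by noncomm_ring
      _ = I := by rw [h]; noncomm_ring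
  have h2 : J * I = -(I * J) := by
    calc J * I = -(J * I * (J * J)) := by rw [hJ]; noncomm_ring
      _ = -((J * I * J) * J) := by noncomm_ring
      _ = -(I * J) := by rw [h1]
  have h3 : W * W = -1 - W := by
    have h : W * W = (W * W + W + 1) - 1 - W := by noncomm_ring
    rw [h, hW]; noncomm_ring
  have h4 : (I * J + I) * W = 1 - I * J := by
    have h5 : I * W * (I * W) = -(I * J) - I * J * W := by
      calc I * W * (I * W) = I * (W * I) * W := by noncomm_ring
        _ = I * J * (W * W) := by rw [hWI]; noncomm_ring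
        _ = -(I * J) - I * J * W := by rw [h3]; noncomm_ring
    rw [h5] at hIW
    have h6 : (I * J + I) * W = 1 - I * J - (-(I * J) - I * J * W - I * W + 1) := by noncomm_ring
    rw [h6, hIW, sub_zero]
  have h5 : (I * J + I) * (I * J + I) = -2 := by
    have h6 : (I * J + I) * (I * J + I) =
        I * J * (I * J) + I * (J * I) + (I * I) * J + I * I := by noncomm_ring
    rw [h6, hIJ, h2, hI]
    have h7 : I * -(I * J) = -((I * I) * J) := by noncomm_ring
    rw [h7, hI, show (-2 : R) = -1 + -1 by norm_num]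
    noncomm_ring
  have h6 : (I * J + I) * (1 - I * J) = I * J + 1 + I + J := by
    have h7 : (I * J + I) * (1 - I * J) = I * J - I * J * (I * J) + I - (I * I) * J := by
      noncomm_ring
    rw [h7, hIJ, hI]
    noncomm_ring
  have h7 : (I * J + I) * ((I * J + I) * W) = I * J + 1 + I + J := by rw [h4, h6]
  rw [← mul_assoc, h5] at h7
  have h8 : W * 2 = -(-2 * W) := by noncomm_ring
  rw [h8, h7]
  abel

end Ring

theorem z1 : (-12 : ZMod 13) = 1 := by decide

theorem z2 : (5 : ZMod 13) * 5 = -1 := by decide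

theorem z3 : ∀ t : ZMod 13, t * t - 5 ≠ 0 := by decide

theorem z4 : (10 : ZMod 13) ≠ 0 := by decide

theorem z5 : (-12 : ZMod 13) = 6 * -2 := by decide

/-- An irreducible faithful module of characteristic 13 has order `13 ^ 4`. -/
theorem card_module {V : Type*} [AddCommGroup V] (h13 : ∀ v : V, 13 • v = 0)
    (hne : ∃ v : V, v ≠ 0) (X J W : AddMonoid.End V) (hX : X * X * (X * X) = -1)
    (hJ : J * J = -1) (hIJ : X * X * J * (X * X * J) = -1) (hXJ : X * J * (X * J) = -1)
    (hW : W * W + W + 1 = 0) (hWI : W * (X * X) = J * W)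
    (hIW : X * X * W * (X * X * W) - X * X * W + 1 = 0)
    (hirr : ∀ S : AddSubgroup V, (∀ v ∈ S, X v ∈ S) → (∀ v ∈ S, W v ∈ S) → S = ⊥ ∨ S = ⊤) :
    Nat.card V = 13 ^ 4 := by
  let _ : Module (ZMod 13) V := AddCommGroup.zmodModule h13
  have : Fact (Nat.Prime 13) := ⟨by norm_num⟩
  have hsm : ∀ (f : AddMonoid.End V) (t : ZMod 13) (v : V), f (t • v) = t • f v :=
    fun f t v => ZMod.map_smul f t v
  have hapX : ∀ v, X (X (X (X v))) = -v := fun v => DFunLike.congr_fun hX v
  have hapJ : ∀ v, J (J v) = -v := fun v => DFunLike.congr_fun hJ v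
  have hapXJ : ∀ v, X (J (X (J v))) = -v := fun v => DFunLike.congr_fun hXJ v
  have hapIJ : ∀ v, X (X (J (X (X (J v))))) = -v := fun v => DFunLike.congr_fun hIJ v
  have hW2 := two_mul_eq (X * X) J W hX hJ hIJ hW hWI hIW
  have hapW : ∀ v, W v = (6 : ZMod 13) • (v + X (X v) + J v + X (X (J v))) := by
    intro v
    have h1 : W (v + v) = -(v + X (X v) + J v + X (X (J v))) := by
      have h2 := DFunLike.congr_fun hW2 v
      have h3 : (W * 2) v = W (v + v) := by
        rw [mul_two, map_add]; rfl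
      rw [h3] at h2
      exact h2
    have h2 : (-12 : ZMod 13) • W v = (6 : ZMod 13) • (v + X (X v) + J v + X (X (J v))) := by
      have h3 : v + X (X v) + J v + X (X (J v)) = -(W (v + v)) := by rw [h1, neg_neg]
      rw [h3, map_add, ← two_smul (ZMod 13) (W v), ← neg_smul, smul_smul, z5]
    rw [← h2, z1, one_smul]
  -- `J` swaps the eigenspaces of `X²`
  have hXJX : ∀ v, X (J (X v)) = J v := by
    intro v
    have h1 := hapXJ (J v)
    rw [hapJ, map_neg, map_neg, map_neg] at h1
    exact neg_injective h1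
  have hXJ' : ∀ v, X (J v) = -(J (X (X (X v)))) := by
    intro v
    have h1 := hXJX (-(X (X (X v))))
    rw [map_neg, hapX, neg_neg] at h1
    rw [h1, map_neg]
  -- eigenvector
  obtain ⟨v, hv0, hv⟩ : ∃ v : V, v ≠ 0 ∧ X (X v) = (5 : ZMod 13) • v := by
    obtain ⟨u, hu⟩ := hne
    by_cases h : X (X u) + (5 : ZMod 13) • u = 0
    · refine ⟨J u, ?_, ?_⟩
      · intro h1
        have h2 := hapJ u
        rw [h1, map_zero] at h2
        exact hu (neg_eq_zero.mp h2.symm)
      · have h1 : X (X u) = -((5 : ZMod 13) • u) := eq_neg_of_add_eq_zero_left h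
        have h2 : ∀ w, X (X (J w)) = -(J (X (X w))) := by
          intro w
          rw [hXJ', map_neg, hXJ', hapX, map_neg, neg_neg]
        rw [h2, h1, map_neg, neg_neg, hsm]
    · refine ⟨_, h, ?_⟩
      rw [map_add, map_add, hapX, hsm, hsm, smul_add, smul_smul,
        z2, neg_smul, one_smul]
      abel
  have hv' : X (X (X v)) = (5 : ZMod 13) • X v := by rw [hv, hsm]
  have hJv : X (J v) = (-5 : ZMod 13) • J (X v) := by rw [hXJ', hv', hsm, neg_smul]
  have hJXv : X (J (X v)) = J v := hXJX v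
  -- the span
  let f : (ZMod 13 × ZMod 13) × (ZMod 13 × ZMod 13) → V := fun t =>
    (t.1.1 • v + t.1.2 • X v) + (t.2.1 • J v + t.2.2 • J (X v))
  have hfadd : ∀ s t, f (s + t) = f s + f t := by
    intro s t
    simp only [f, Prod.fst_add, Prod.snd_add, add_smul]
    abel
  let S : AddSubgroup V :=
    { carrier := Set.range f
      add_mem' := by
        rintro _ _ ⟨s, rfl⟩ ⟨t, rfl⟩
        exact ⟨s + t, hfadd s t⟩
      zero_mem' := ⟨0, by simp only [f, _root_.Prod.fst_zero, _root_.zero_smul, _root_.Prod.snd_zero, _root_.add_zero]⟩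
      neg_mem' := by
        rintro _ ⟨s, rfl⟩
        refine ⟨-s, ?_⟩
        simp only [f, Prod.fst_neg, Prod.snd_neg, neg_smul]
        abel }
  have hsmS : ∀ (t : ZMod 13) (w : V), w ∈ S → t • w ∈ S := by
    rintro t _ ⟨s, rfl⟩
    refine ⟨((t * s.1.1, t * s.1.2), (t * s.2.1, t * s.2.2)), ?_⟩
    simp only [f, smul_add, smul_smul]
  have hSX : ∀ w ∈ S, X w ∈ S := by
    rintro _ ⟨⟨⟨a, b⟩, ⟨c, d⟩⟩, rfl⟩
    refine ⟨((5 * b, a), (d, -5 * c)), ?_⟩
    simp only [f, map_add, hsm, hv, hJv, hJXv, smul_smul]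
    rw [mul_comm 5 b, mul_comm (-5) c]
    abel
  have hSJ : ∀ w ∈ S, J w ∈ S := by
    rintro _ ⟨⟨⟨a, b⟩, ⟨c, d⟩⟩, rfl⟩
    refine ⟨((-c, -d), (a, b)), ?_⟩
    simp only [f, map_add, hsm, hapJ, neg_smul, smul_neg]
    abel
  have hSW : ∀ w ∈ S, W w ∈ S := by
    intro w hw
    rw [hapW]
    exact hsmS _ _ (add_mem (add_mem (add_mem hw (hSX _ (hSX _ hw))) (hSJ _ hw))
      (hSX _ (hSX _ (hSJ _ hw))))
  have hStop : S = ⊤ := by
    rcases hirr S hSX hSW with h | h
    · exfalso
      have h1 : v ∈ S := ⟨((1, 0), (0, 0)), by simp [f]⟩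
      rw [h] at h1
      exact hv0 h1
    · exact h
  have hinj2 : ∀ a b : ZMod 13, a • v + b • X v = 0 → a = 0 ∧ b = 0 := by
    intro a b hab
    by_cases hb : b = 0
    · rw [hb, zero_smul, add_zero] at hab
      exact ⟨(smul_eq_zero.mp hab).resolve_right hv0, hb⟩
    · exfalso
      have h1 : X v = (-(b⁻¹ * a)) • v := by
        have h2 : b • X v = -(a • v) := eq_neg_of_add_eq_zero_right hab
        have h3 : X v = b⁻¹ • (b • X v) := by rw [smul_smul, inv_mul_cancel₀ hb, one_smul]
        rw [h3, h2, smul_neg, smul_smul, neg_smul]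
      have h2 : ((-(b⁻¹ * a)) * (-(b⁻¹ * a)) - 5) • v = 0 := by
        have h3 := hv
        rw [h1, hsm, h1, smul_smul] at h3
        rw [sub_smul, h3, sub_self]
      have h3 := (smul_eq_zero.mp h2).resolve_right hv0
      exact z3 _ h3
  have hinj : Function.Injective f := by
    have h0 : ∀ t, f t = 0 → t = 0 := by
      rintro ⟨⟨a, b⟩, ⟨c, d⟩⟩ ht
      simp only [f] at ht
      have h1 : X (X ((a • v + b • X v) + (c • J v + d • J (X v)))) = 0 := by
        rw [ht, map_zero, map_zero]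
      simp only [map_add, hsm, hv, hJv, hJXv] at h1
      have h2 : (10 : ZMod 13) • (a • v + b • X v) = 0 := by
        have h3 : (10 : ZMod 13) • (a • v + b • X v) =
            (5 : ZMod 13) • ((a • v + b • X v) + (c • J v + d • J (X v))) +
            (a • (5 : ZMod 13) • v + b • (5 : ZMod 13) • X v +
              (c • (-5 : ZMod 13) • J v + d • (-5 : ZMod 13) • J (X v))) := by
          module
        rw [h3, ht, smul_zero, zero_add]
        exact h1
      have h3 := (smul_eq_zero.mp h2).resolve_left z4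
      have h4 : J (c • v + d • X v) = 0 := by
        rw [h3, zero_add] at ht
        rw [map_add, hsm, hsm]
        exact ht
      have h5 : c • v + d • X v = 0 := by
        have h6 := hapJ (c • v + d • X v)
        rw [h4, map_zero] at h6
        exact neg_eq_zero.mp h6.symm
      obtain ⟨rfl, rfl⟩ := hinj2 a b h3
      obtain ⟨rfl, rfl⟩ := hinj2 c d h5
      rfl
    intro s t hst
    have h1 : f (s - t) = 0 := by
      have h2 : f ((s - t) + t) = f (s - t) + f t := hfadd _ _
      rw [sub_add_cancel, hst] at h2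
      exact right_eq_add.mp h2
    exact sub_eq_zero.mp (h0 _ h1)
  have hsurj : Function.Surjective f := by
    intro w
    have h1 : w ∈ S := by rw [hStop]; trivial
    exact h1
  rw [← Nat.card_congr (Equiv.ofBijective f ⟨hinj, hsurj⟩)]
  simp

end Cfsg.Agent.H220.ModFour
end

-- part: H220/ConjRep
section
/-!
# The conjugation module of an abelian normal subgroup
-/

set_option autoImplicit false
set_option linter.unusedSectionVars false

namespace Cfsg.Agent.H220.ConjRep

open Equiv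

variable {G : Type*} [Group G]

/-- A commutative subgroup is a commutative group. -/
abbrev commGroupM (M : Subgroup G) [IsMulCommutative M] : CommGroup M :=
  { (inferInstance : Group M) with mul_comm := mul_comm' }

attribute [local instance] commGroupM

/-- Conjugation by `g`, as an endomorphism of the additive group of `M`. -/
def act (M : Subgroup G) [M.Normal] [IsMulCommutative M] (g : G) : AddMonoid.End (Additive M) :=
  MonoidHom.toAdditive ((MulAut.conjNormal g : M ≃* M) : M →* M)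

variable (M : Subgroup G) [M.Normal] [IsMulCommutative M]

/-- The value as an element of the group. -/
def val (v : Additive M) : G := ((Additive.toMul v : M) : G)

theorem val_act (g : G) (v : Additive M) : val M (act M g v) = g * val M v * g⁻¹ :=
  MulAut.conjNormal_apply g (Additive.toMul v)

theorem val_add (u v : Additive M) : val M (u + v) = val M u * val M v := rfl

theorem val_neg (u : Additive M) : val M (-u) = (val M u)⁻¹ := rfl

theorem val_zero : val M 0 = 1 := rfl

theorem val_nsmul (n : ℕ) (u : Additive M) : val M (n • u) = val M u ^ n := rfl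

theorem val_mem (u : Additive M) : val M u ∈ M := (Additive.toMul u : M).2

theorem val_injective {u v : Additive M} (h : val M u = val M v) : u = v :=
  Additive.toMul.injective (Subtype.ext h)

/-- The additive element of a member. -/
def mk (x : G) (hx : x ∈ M) : Additive M := Additive.ofMul ⟨x, hx⟩

theorem val_mk (x : G) (hx : x ∈ M) : val M (mk M x hx) = x := rfl

theorem act_mul (g h : G) : act M (g * h) = act M g * act M h := by
  refine AddMonoidHom.ext fun v => val_injective M ?_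
  change val M (act M (g * h) v) = val M (act M g (act M h v))
  rw [val_act, val_act, val_act]
  group

theorem act_one : act M 1 = 1 := by
  refine AddMonoidHom.ext fun v => val_injective M ?_
  change val M (act M 1 v) = val M v
  rw [val_act]
  group

theorem act_pow (g : G) (n : ℕ) : act M (g ^ n) = act M g ^ n := by
  induction n with
  | zero => rw [pow_zero, pow_zero, act_one]
  | succ n ih => rw [pow_succ, pow_succ, act_mul, ih]

theorem act_neg {z : G} (hz : ∀ m ∈ M, z * m * z⁻¹ = m⁻¹) : act M z = -1 := by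
  refine AddMonoidHom.ext fun v => val_injective M ?_
  change val M (act M z v) = val M (-v)
  rw [val_act, val_neg, hz _ (val_mem M v)]

/-- Elements of order three without fixed points. -/
theorem act_three {w : G} (hw : w * w * w = 1) (hfix : ∀ m ∈ M, w * m * w⁻¹ = m → m = 1) :
    act M w * act M w + act M w + 1 = 0 := by
  refine AddMonoidHom.ext fun v => ?_
  change act M w (act M w v) + act M w v + v = 0
  have h3 : act M w (act M w (act M w v)) = v := by
    have h := DFunLike.congr_fun (act_mul M (w * w) w) v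
    rw [hw, act_one, act_mul] at h
    exact h.symm
  have h1 : act M w (act M w (act M w v) + act M w v + v) =
      act M w (act M w v) + act M w v + v := by
    rw [map_add, map_add, h3]
    abel
  have h1' : act M w (act M w (act M w v) + act M w v + v) =
      act M w (act M w v) + act M w v + v := h1
  apply val_injective
  rw [val_zero]
  apply hfix _ (val_mem M _)
  have h4 : act M w (act M w (act M w v) + act M w v + v) =
      act M w (act M w v) + act M w v + v := h1'
  rw [← val_act, h4]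

theorem ring_aux1 {R : Type*} [Ring R] (a b : R) : -1 * (a * a) * b = -(a * a * b) := by
  noncomm_ring

theorem ring_aux2 {R : Type*} [Ring R] (a : R) (h : -a * -a + -a + 1 = 0) : a * a - a + 1 = 0 := by
  rw [← h]
  noncomm_ring

/-- **The module has order `13 ^ 4`.** -/
theorem card_eq (hne : M ≠ ⊥) (h13 : ∀ x ∈ M, x ^ 13 = 1) (H : Subgroup G)
    (hfpf : ∀ h ∈ H, h ≠ 1 → ∀ m ∈ M, h * m * h⁻¹ = m → m = 1)
    (hirr : ∀ S : Subgroup G, S ≤ M → (∀ h ∈ H, ∀ s ∈ S, h * s * h⁻¹ ∈ S) → S = ⊥ ∨ S = M)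
    [Finite H]
    (z : H) (hz1 : z ≠ 1) (hz2 : z * z = 1) (hz : ∀ m ∈ M, (z : G) * m * (z : G)⁻¹ = m⁻¹)
    (huniq : ∀ g : H, g * g = 1 → g = 1 ∨ g = z) (φ : H →* Perm (Fin 4))
    (hφ : Function.Surjective φ) (hker : ∀ g, φ g = 1 ↔ g = 1 ∨ g = z) :
    Nat.card M = 13 ^ 4 := by
  obtain ⟨x, j, ω, h1, h2, h3, h4, h5, h6, h7, h8, h9, h10⟩ :=
    BinOct.exists_triple z hz1 hz2 huniq φ hφ hker
  have hzact : act M (z : G) = -1 := act_neg M hz
  have hcoe : ∀ a b : H, ((a * b : H) : G) = a * b := fun _ _ => rfl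
  have hfp : ∀ w : H, w ≠ 1 → ∀ m ∈ M, (w : G) * m * (w : G)⁻¹ = m → m = 1 := by
    intro w hw
    exact hfpf w w.2 (fun h => hw (Subtype.ext h))
  have key := ModFour.card_module (V := Additive M)
    (fun v => val_injective M (by rw [val_nsmul, val_zero]; exact h13 _ (val_mem M v)))
    (by
      obtain ⟨m, hm⟩ := Subgroup.ne_bot_iff_exists_ne_one.mp hne
      refine ⟨mk M m m.2, fun h => hm (Subtype.ext ?_)⟩
      rw [← val_mk M (m : G) m.2, h, val_zero]
      rfl)
    (act M x) (act M j) (act M ω)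
    (by rw [← act_mul, ← act_mul, ← hcoe, ← hcoe, h1, hzact])
    (by rw [← act_mul, ← hcoe, h2, hzact])
    (by rw [← act_mul, ← act_mul, ← act_mul, ← hcoe, ← hcoe, ← hcoe, h3, hzact])
    (by rw [← act_mul, ← act_mul, ← hcoe, ← hcoe, h4, hzact])
    (act_three M (by rw [← hcoe, ← hcoe, h5]; rfl) (hfp ω h6))
    (by rw [← act_mul, ← act_mul, ← act_mul, ← hcoe, ← hcoe, ← hcoe, h7])
    (by
      have h11 := act_three M (w := ((z * (x * x) * ω : H) : G))
        (by rw [← hcoe, ← hcoe, h8]; rfl) (hfp _ h9)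
      have h12 : act M ((z * (x * x) * ω : H) : G) = -(act M x * act M x * act M ω) := by
        rw [hcoe, hcoe, hcoe, act_mul, act_mul, act_mul, hzact]
        exact ring_aux1 _ _
      rw [h12] at h11
      exact ring_aux2 _ h11)
    (by
      intro S hSx hSω
      -- the stabilizer of `S`
      let T : Submonoid H :=
        { carrier := {h : H | ∀ v ∈ S, act M h v ∈ S}
          one_mem' := by
            intro v hv
            have : act M ((1 : H) : G) = 1 := act_one M
            rw [this]; exact hv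
          mul_mem' := by
            intro a b ha hb v hv
            have : act M ((a * b : H) : G) v = act M a (act M b v) := by
              rw [hcoe, act_mul]; rfl
            rw [this]
            exact ha _ (hb _ hv) }
      have hT : ∀ h : H, h ∈ T := by
        intro h
        let T' : Subgroup H :=
          { T with
            inv_mem' := by
              intro a ha
              have h11 : a⁻¹ = a ^ (orderOf a - 1) := by
                rw [inv_eq_iff_mul_eq_one, ← pow_succ',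
                  Nat.sub_add_cancel (orderOf_pos a), pow_orderOf_eq_one]
              rw [h11]
              exact T.pow_mem ha _ }
        have h12 : T' = ⊤ := h10 T' hSx hSω
        have h13 : h ∈ T' := by rw [h12]; trivial
        exact h13
      let S' : Subgroup G :=
        { carrier := {g | ∃ v ∈ S, val M v = g}
          one_mem' := ⟨0, S.zero_mem, rfl⟩
          mul_mem' := by
            rintro _ _ ⟨u, hu, rfl⟩ ⟨v, hv, rfl⟩
            exact ⟨u + v, S.add_mem hu hv, rfl⟩
          inv_mem' := by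
            rintro _ ⟨u, hu, rfl⟩
            exact ⟨-u, S.neg_mem hu, rfl⟩ }
      have hS' := hirr S' (by rintro _ ⟨u, hu, rfl⟩; exact val_mem M u) (by
        rintro h hh _ ⟨u, hu, rfl⟩
        exact ⟨act M h u, hT ⟨h, hh⟩ u hu, val_act M h u⟩)
      rcases hS' with h | h
      · left
        rw [eq_bot_iff]
        intro v hv
        have h11 : val M v ∈ S' := ⟨v, hv, rfl⟩
        rw [h, Subgroup.mem_bot] at h11
        exact val_injective M h11
      · right
        rw [eq_top_iff]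
        intro v _
        have h11 : val M v ∈ S' := by rw [h]; exact val_mem M v
        obtain ⟨u, hu, huv⟩ := h11
        rwa [← val_injective M huv])
  rw [← key]
  rfl

end Cfsg.Agent.H220.ConjRep
end

-- part: H220/LieThirteen
section
/-!
# Lie rings of exponent two with a Frobenius group of order 39 of automorphisms (helper220)

`L` is a Lie ring with `2 L = 0`, `a` an automorphism of order 13 without fixed points and `c` an
automorphism of order 3 with `a c = c a³`, such that the norms `x + c x + c² x` commute. Then `L` is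
nilpotent of class at most two.
-/

set_option autoImplicit false

namespace Cfsg.Agent.H220.LieThirteen

open Cfsg.Agent.H449

instance fact13 : Fact (Nat.Prime 13) := ⟨by norm_num⟩

/-- independent pairs of weights -/
theorem indep_check : ∀ α β : ZMod 13, α ≠ 0 → β ≠ 0 → α + β ≠ 0 → β ≠ 3 * α → β ≠ 9 * α →
    ∀ s t : Fin 3, (s ≠ 0 ∨ t ≠ 0) → 3 ^ (s : ℕ) * α + 3 ^ (t : ℕ) * β ≠ α + β := by
  decide +kernel

theorem dep_check : ∀ α β γ : ZMod 13, α ≠ 0 → (β = 3 * α ∨ β = 9 * α) →
    (γ = 3 * (α + β) ∨ γ = 9 * (α + β)) →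
    γ ≠ 3 * α ∧ γ ≠ 9 * α ∧ γ ≠ 3 * β ∧ γ ≠ 9 * β := by
  decide +kernel

variable {A : Type} [CommRing A] {U : Type*} [LieRing U] [LieAlgebra A U]

/-- The linear projections (up to the factor 13). -/
noncomputable def P (χ : AddChar (ZMod 13) A) (b : U →ₗ[A] U) (j : ZMod 13) : U →ₗ[A] U :=
  ∑ i : ZMod 13, χ (-(i * j)) • (b ^ i.val)

omit [LieRing U] [LieAlgebra A U] in
theorem P_apply_eig {U : Type*} [LieRing U] [LieAlgebra A U]
    (χ : AddChar (ZMod 13) A) (hχ : ∑ j : ZMod 13, χ j = 0) (b : U →ₗ[A] U)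
    {i : ZMod 13} {x : U} (hx : x ∈ eig χ b i) (j : ZMod 13) :
    P χ b j x = if i = j then (13 : ℕ) • x else 0 := by
  have h1 : ∀ n : ℕ, (b ^ n) x = χ ((n : ZMod 13) * i) • x := by
    intro n
    induction n with
    | zero => simp
    | succ n ih =>
      rw [pow_succ', Module.End.mul_apply, ih, map_smul, mem_eig.mp hx, smul_smul,
        ← AddChar.map_add_eq_mul]
      congr 2
      push_cast
      ring
  have h2 : P χ b j x = (∑ k : ZMod 13, χ (k * (i - j))) • x := by
    rw [P, LinearMap.sum_apply, Finset.sum_smul]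
    refine Finset.sum_congr rfl fun k _ => ?_
    rw [LinearMap.smul_apply, h1, smul_smul, ← AddChar.map_add_eq_mul]
    congr 2
    rw [ZMod.natCast_zmod_val]
    ring
  rw [h2]
  split_ifs with h
  · subst h
    simp only [sub_self, mul_zero, AddChar.map_zero_eq_one, Finset.sum_const, Finset.card_univ,
      ZMod.card]
    rw [nsmul_eq_mul, mul_one, Nat.cast_smul_eq_nsmul]
  · have h3 : ∑ k : ZMod 13, χ (k * (i - j)) = ∑ k : ZMod 13, χ k := by
      have h4 : i - j ≠ 0 := sub_ne_zero.mpr h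
      exact Fintype.sum_equiv (Equiv.mulRight₀ (i - j) h4) _ _ fun k => rfl
    rw [h3, hχ, zero_smul]

theorem zero_of_two_thirteen {M : Type*} [AddCommGroup M] {x : M} (h2 : 2 • x = 0)
    (h13 : (13 : ℕ) • x = 0) : x = 0 := by
  have h : (13 : ℕ) • x = 6 • (2 • x) + x := by
    rw [smul_smul, ← succ_nsmul]
    norm_num
  rw [h, h2, smul_zero, zero_add] at h13
  exact h13

/-- Independent weight spaces commute. -/
theorem indep (χ : AddChar (ZMod 13) A) (hχ : ∑ j : ZMod 13, χ j = 0) (b d : U →ₗ[A] U)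
    (hb : ∀ x y, b ⁅x, y⁆ = ⁅b x, b y⁆)
    (hbd : ∀ j : ZMod 13, ∀ x ∈ eig χ b j, d x ∈ eig χ b (3 * j))
    (h2 : ∀ x : U, 2 • x = 0) (h0 : ∀ x : U, b x = x → x = 0)
    (hN : ∀ x y : U, ⁅x + d x + d (d x), y + d y + d (d y)⁆ = 0)
    {α β : ZMod 13} (h3 : β ≠ 3 * α) (h9 : β ≠ 9 * α) {u v : U} (hu : u ∈ eig χ b α)
    (hv : v ∈ eig χ b β) : ⁅u, v⁆ = 0 := by
  have hz : ∀ x ∈ eig χ b 0, x = 0 := by
    intro x hx
    rw [mem_eig, AddChar.map_zero_eq_one, one_smul] at hx
    exact h0 x hx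
  have hmem : ∀ {i j : ZMod 13} {x y : U}, x ∈ eig χ b i → y ∈ eig χ b j →
      ⁅x, y⁆ ∈ eig χ b (i + j) := by
    intro i j x y hx hy
    exact fbr_eig_le χ b hb _ (lie_mem_fbr hx hy)
  by_cases hα : α = 0
  · subst hα
    rw [hz u hu, zero_lie]
  by_cases hβ : β = 0
  · subst hβ
    rw [hz v hv, lie_zero]
  by_cases hαβ : α + β = 0
  · have h := hmem hu hv
    rw [hαβ] at h
    exact hz _ h
  -- the components
  let du : Fin 3 → U := fun s => (d ^ (s : ℕ)) u
  let dv : Fin 3 → U := fun s => (d ^ (s : ℕ)) v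
  have hd : ∀ (n : ℕ) {j : ZMod 13} {x : U}, x ∈ eig χ b j → (d ^ n) x ∈ eig χ b (3 ^ n * j) := by
    intro n
    induction n with
    | zero => intro j x hx; simpa using hx
    | succ n ih =>
      intro j x hx
      have e : (3 : ZMod 13) ^ (n + 1) * j = 3 * (3 ^ n * j) := by ring
      rw [e, pow_succ' d, Module.End.mul_apply]
      exact hbd _ _ (ih hx)
  have hsum : ∑ s : Fin 3, ∑ t : Fin 3, ⁅du s, dv t⁆ = 0 := by
    have h := hN u v
    have e1 : ∑ s : Fin 3, du s = u + d u + d (d u) := by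
      simp only [Fin.sum_univ_three, du, pow_succ', _root_.Fin.isValue, _root_.Fin.coe_ofNat_eq_mod, _root_.Nat.zero_mod, _root_.pow_zero, _root_.Module.End.one_apply, _root_.Nat.one_mod, _root_.mul_one, _root_.Nat.mod_succ, _root_.Module.End.mul_apply]
    have e2 : ∑ s : Fin 3, dv s = v + d v + d (d v) := by
      simp only [Fin.sum_univ_three, dv, pow_succ', _root_.Fin.isValue, _root_.Fin.coe_ofNat_eq_mod, _root_.Nat.zero_mod, _root_.pow_zero, _root_.Module.End.one_apply, _root_.Nat.one_mod, _root_.mul_one, _root_.Nat.mod_succ, _root_.Module.End.mul_apply]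
    rw [← e1, ← e2] at h
    rw [← h, sum_lie]
    refine Finset.sum_congr rfl fun s _ => ?_
    rw [lie_sum]
  have hP : P χ b (α + β) (∑ s : Fin 3, ∑ t : Fin 3, ⁅du s, dv t⁆) = (13 : ℕ) • ⁅u, v⁆ := by
    rw [map_sum]
    have h4 : ∀ s t : Fin 3, P χ b (α + β) ⁅du s, dv t⁆ =
        if s = 0 ∧ t = 0 then (13 : ℕ) • ⁅u, v⁆ else 0 := by
      intro s t
      rw [P_apply_eig χ hχ b (hmem (hd s hu) (hd t hv))]
      by_cases hst : s = 0 ∧ t = 0
      · obtain ⟨rfl, rfl⟩ := hst
        simp only [du, dv, _root_.Fin.isValue, _root_.Fin.coe_ofNat_eq_mod, _root_.Nat.zero_mod, _root_.pow_zero, _root_.one_mul, ↓ _root_.reduceIte, _root_.Module.End.one_apply, _root_.and_self]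
      · rw [if_neg hst, if_neg]
        apply indep_check α β hα hβ hαβ h3 h9 s t
        by_contra hcon
        push Not at hcon
        exact hst hcon
    have h5 : ∀ s : Fin 3, P χ b (α + β) (∑ t : Fin 3, ⁅du s, dv t⁆) =
        if s = 0 then (13 : ℕ) • ⁅u, v⁆ else 0 := by
      intro s
      rw [map_sum, Finset.sum_congr rfl fun t _ => h4 s t]
      by_cases hs : s = 0 <;> simp only [hs, _root_.Fin.isValue, _root_.true_and, _root_.Finset.sum_ite_eq', _root_.Finset.mem_univ, ↓ _root_.reduceIte, _root_.false_and, _root_.Finset.sum_const_zero]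
    rw [Finset.sum_congr rfl fun s _ => h5 s]
    simp only [_root_.Fin.isValue, _root_.Finset.sum_ite_eq', _root_.Finset.mem_univ, ↓ _root_.reduceIte]
  rw [hsum, map_zero] at hP
  exact zero_of_two_thirteen (h2 _) hP.symm

theorem class_two_hom (χ : AddChar (ZMod 13) A) (hχ : ∑ j : ZMod 13, χ j = 0) (b d : U →ₗ[A] U)
    (hb : ∀ x y, b ⁅x, y⁆ = ⁅b x, b y⁆)
    (hbd : ∀ j : ZMod 13, ∀ x ∈ eig χ b j, d x ∈ eig χ b (3 * j))
    (h2 : ∀ x : U, 2 • x = 0) (h0 : ∀ x : U, b x = x → x = 0)
    (hN : ∀ x y : U, ⁅x + d x + d (d x), y + d y + d (d y)⁆ = 0)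
    {α β γ : ZMod 13} {u v w : U} (hu : u ∈ eig χ b α)
    (hv : v ∈ eig χ b β) (hw : w ∈ eig χ b γ) : ⁅⁅u, v⁆, w⁆ = 0 := by
  have hI : ∀ {α β : ZMod 13} {u v : U}, β ≠ 3 * α → β ≠ 9 * α → u ∈ eig χ b α →
      v ∈ eig χ b β → ⁅u, v⁆ = 0 := fun h3 h9 hu hv => indep χ hχ b d hb hbd h2 h0 hN h3 h9 hu hv
  have hz : ∀ x ∈ eig χ b 0, x = 0 := by
    intro x hx
    rw [mem_eig, AddChar.map_zero_eq_one, one_smul] at hx
    exact h0 x hx
  by_cases hα : α = 0
  · subst hα
    rw [hz u hu, zero_lie, zero_lie]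
  by_cases hdep : β = 3 * α ∨ β = 9 * α
  swap
  · push Not at hdep
    rw [hI hdep.1 hdep.2 hu hv, zero_lie]
  have huv : ⁅u, v⁆ ∈ eig χ b (α + β) := fbr_eig_le χ b hb _ (lie_mem_fbr hu hv)
  by_cases hdep2 : γ = 3 * (α + β) ∨ γ = 9 * (α + β)
  swap
  · push Not at hdep2
    exact hI hdep2.1 hdep2.2 huv hw
  obtain ⟨c1, c2, c3, c4⟩ := dep_check α β γ hα hdep hdep2
  rw [lie_lie, hI c3 c4 hv hw, hI c1 c2 hu hw, lie_zero, lie_zero, sub_zero]

/-- **Class at most two.** -/
theorem class_two {L : Type*} [LieRing L] (a c : L →+ L)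
    (ha : ∀ x y, a ⁅x, y⁆ = ⁅a x, a y⁆) (hap : ∀ x, (⇑a)^[13] x = x)
    (hac : ∀ x, a (c x) = c (a (a (a x))))
    (h2 : ∀ x : L, 2 • x = 0) (h0 : ∀ x : L, a x = x → x = 0)
    (hN : ∀ x y : L, ⁅x + c x + c (c x), y + c y + c (c y)⁆ = 0) (x y z : L) :
    ⁅⁅x, y⁆, z⁆ = 0 := by
  obtain ⟨A, _, hfree, hnt, ω, hω, hsum⟩ := exists_root_ring 13 (by norm_num)
  let χ : AddChar (ZMod 13) A := AddChar.zmodChar 13 hω
  have hχ : ∑ j : ZMod 13, χ j = 0 := by
    have h1 : ∀ j : ZMod 13, χ j = ω ^ j.val := fun j => AddChar.zmodChar_apply hω j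
    rw [Finset.sum_congr rfl fun j _ => h1 j, ← hsum]
    exact Fin.sum_univ_eq_sum_range (fun j => ω ^ j) 13
  let b := ext A a
  let d := ext A c
  have hb : ∀ x y, b ⁅x, y⁆ = ⁅b x, b y⁆ := ext_lie A a ha
  have hbp : ∀ x, (⇑b)^[13] x = x := ext_iterate A a 13 hap
  have hb0 : ∀ x, b x = x → x = 0 := by
    intro x hx
    have h := ext_fixed A a 1 (fun x hx => by rw [one_smul]; exact h0 x hx) x hx
    rwa [one_smul] at h
  have hb2 : ∀ x : _root_.Cfsg.Agent.H449.Ext A L, 2 • x = 0 := by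
    intro x
    induction x using Ext.ind with
    | h0 => simp
    | h1 s u =>
      rw [nsmul_tm, h2]
      exact TensorProduct.tmul_zero _ _
    | h2 x y h1 h2 => rw [smul_add, h1, h2, add_zero]
  have hbd' : ∀ x, b (d x) = d (b (b (b x))) := by
    intro x
    induction x using Ext.ind with
    | h0 => simp only [_root_.map_zero]
    | h1 s u =>
      change ext A a (ext A c (tm A s u)) = ext A c (ext A a (ext A a (ext A a (tm A s u))))
      rw [ext_tm, ext_tm, ext_tm, ext_tm, ext_tm, ext_tm, hac]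
    | h2 x y h1 h2 => simp only [map_add, h1, h2]
  have hbd : ∀ j : ZMod 13, ∀ x ∈ eig χ b j, d x ∈ eig χ b (3 * j) := by
    intro j x hx
    rw [mem_eig] at hx ⊢
    rw [hbd']
    simp only [hx, map_smul, smul_smul, ← AddChar.map_add_eq_mul]
    congr 2
    ring
  have hbN : ∀ x y : _root_.Cfsg.Agent.H449.Ext A L, ⁅x + d x + d (d x), y + d y + d (d y)⁆ = 0 := by
    intro x y
    induction x using Ext.ind with
    | h0 => simp only [_root_.map_zero, _root_.add_zero, _root_.lie_add, _root_.zero_lie]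
    | h1 s u =>
      induction y using Ext.ind with
      | h0 => simp only [_root_.map_zero, _root_.add_zero, _root_.lie_zero]
      | h1 t v =>
        have e : ∀ (s : A) (u : L), tm A s u + d (tm A s u) + d (d (tm A s u)) =
            tm A s (u + c u + c (c u)) := by
          intro s u
          change tm A s u + ext A c (tm A s u) + ext A c (ext A c (tm A s u)) = _
          rw [ext_tm, ext_tm]
          change _ = s ⊗ₜ[ℤ] _
          rw [TensorProduct.tmul_add, TensorProduct.tmul_add]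
          rfl
        rw [e, e, lie_tm, hN]
        exact TensorProduct.tmul_zero _ _
      | h2 y y' h1 h2 =>
        have e : y + y' + d (y + y') + d (d (y + y')) =
            (y + d y + d (d y)) + (y' + d y' + d (d y')) := by
          simp only [map_add]; abel
        rw [e, lie_add, h1, h2, add_zero]
    | h2 x x' h1 h2 =>
      have e : x + x' + d (x + x') + d (d (x + x')) =
          (x + d x + d (d x)) + (x' + d x' + d (d x')) := by
        simp only [map_add]; abel
      rw [e, add_lie, h1, h2, add_zero]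
  have hdec : ∀ x : _root_.Cfsg.Agent.H449.Ext A L, ∃ f : ZMod 13 → Ext A L, (∀ j, f j ∈ eig χ b j) ∧
      ∑ j, f j = x := by
    intro x
    refine ⟨fun j => prj χ b j x, fun j => prj_mem χ b hbp j x, ?_⟩
    rw [sum_prj χ hχ b x]
    have h : (13 : ℕ) • x = 6 • (2 • x) + x := by
      rw [smul_smul, ← succ_nsmul]
      norm_num
    rw [h, hb2, smul_zero, zero_add]
  have key : ∀ X Y Z : Ext A L, ⁅⁅X, Y⁆, Z⁆ = 0 := by
    intro X Y Z
    obtain ⟨f, hf, rfl⟩ := hdec X
    obtain ⟨g, hg, rfl⟩ := hdec Y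
    obtain ⟨h, hh, rfl⟩ := hdec Z
    rw [lie_sum]
    refine Finset.sum_eq_zero fun k _ => ?_
    rw [sum_lie, sum_lie]
    refine Finset.sum_eq_zero fun i _ => ?_
    rw [lie_sum, sum_lie]
    refine Finset.sum_eq_zero fun j _ => ?_
    exact class_two_hom χ hχ b d hb hbd hb2 hb0 hbN (hf i) (hg j) (hh k)
  have h1 := key (tm A 1 x) (tm A 1 y) (tm A 1 z)
  rw [lie_tm, lie_tm, one_mul, one_mul] at h1
  exact tm_injective A _ h1

end Cfsg.Agent.H220.LieThirteen
end

-- part: H220/NormSum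
section
/-!
# Norm sums for a Frobenius action of `13 : m`

Let `a` be an additive endomorphism with `a ^ 13 = 1` without nonzero fixed points and let
`a * c = c * a ^ k`, where `k` has order at least `m` modulo `13`. Then the conjugates of
`1 + c + ⋯ + c ^ (m - 1)` under the powers of `a` sum to `13`.
-/

set_option autoImplicit false

namespace Cfsg.Agent.H220.NormSum

open Finset

variable {V : Type*} [AddCommGroup V]

theorem sum_app {ι : Type*} (s : Finset ι) (F : ι → AddMonoid.End V) (v : V) :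
    (∑ i ∈ s, F i) v = ∑ i ∈ s, F i v := by
  classical
  induction s using Finset.induction_on with
  | empty => rfl
  | insert i s hi ih => rw [sum_insert hi, sum_insert hi, ← ih]; rfl

theorem fixed_of_pow (a : AddMonoid.End V) (ha : a ^ 13 = 1) {e : ℕ} (he : ¬ 13 ∣ e) {v : V}
    (hv : (a ^ e) v = v) : a v = v := by
  have hc : Nat.Coprime e 13 := ((Nat.Prime.coprime_iff_not_dvd (by norm_num)).mpr he).symm
  obtain ⟨f, -, hf⟩ := Nat.exists_mul_mod_eq_one_of_coprime hc (by norm_num)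
  have h1 : ∀ n : ℕ, ((a ^ e) ^ n) v = v := by
    intro n
    induction n with
    | zero => rfl
    | succ n ih => rw [pow_succ, AddMonoid.End.coe_mul, Function.comp_apply, hv, ih]
  have h2 : (a ^ e) ^ f = a := by
    rw [← pow_mul, ← Nat.div_add_mod (e * f) 13, hf, pow_add, pow_mul, ha, one_pow, one_mul,
      pow_one]
  have h3 := h1 f
  rwa [h2] at h3

theorem geom_zero (a : AddMonoid.End V) (ha : a ^ 13 = 1) (h0 : ∀ v, a v = v → v = 0) {e : ℕ}
    (he : ¬ 13 ∣ e) : ∑ i ∈ range 13, (a ^ e) ^ i = 0 := by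
  ext v
  have h1 := mul_geom_sum (a ^ e) 13
  have h2 : (a ^ e) ^ 13 = 1 := by rw [← pow_mul, mul_comm, pow_mul, ha, one_pow]
  rw [h2, sub_self, sub_mul, one_mul, sub_eq_zero] at h1
  have h3 := DFunLike.congr_fun h1 v
  rw [AddMonoid.End.coe_mul, Function.comp_apply] at h3
  have h4 := h0 _ (fixed_of_pow a ha he h3)
  rw [h4]
  rfl

theorem pow_comm (a c : AddMonoid.End V) {k : ℕ} (hac : a * c = c * a ^ k) (i j : ℕ) :
    a ^ i * c ^ j = c ^ j * a ^ (k ^ j * i) := by
  have h1 : ∀ i, a ^ i * c = c * a ^ (k * i) := by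
    intro i
    induction i with
    | zero => simp
    | succ i ih =>
      rw [pow_succ, mul_assoc, hac, ← mul_assoc, ih, mul_assoc, ← pow_add, Nat.mul_succ]
  induction j with
  | zero => simp
  | succ j ih =>
    rw [pow_succ, ← mul_assoc, ih, mul_assoc, h1, ← mul_assoc]
    congr 2
    ring

theorem norm_sum (a c : AddMonoid.End V) (ha : a ^ 13 = 1) (h0 : ∀ v, a v = v → v = 0)
    {k m : ℕ} (hac : a * c = c * a ^ k)
    (hk : ∀ j, 0 < j → j < m → ¬ 13 ∣ k ^ j + 12) (hm : 0 < m) :
    ∑ i ∈ range 13, a ^ i * (∑ j ∈ range m, c ^ j) * a ^ (12 * i) = 13 := by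
  have h1 : ∀ i ∈ range 13, a ^ i * (∑ j ∈ range m, c ^ j) * a ^ (12 * i) =
      ∑ j ∈ range m, c ^ j * (a ^ (k ^ j + 12)) ^ i := by
    intro i _
    rw [mul_sum, sum_mul]
    refine sum_congr rfl fun j _ => ?_
    rw [pow_comm a c hac, mul_assoc, ← pow_add, ← pow_mul, add_mul]
  rw [sum_congr rfl h1, sum_comm]
  have h2 : ∀ j ∈ range m, j ≠ 0 → ∑ i ∈ range 13, c ^ j * (a ^ (k ^ j + 12)) ^ i = 0 := by
    intro j hj hj0
    rw [← mul_sum, geom_zero a ha h0 (hk j (Nat.pos_of_ne_zero hj0) (mem_range.mp hj)), mul_zero]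
  rw [sum_eq_single 0 h2 (fun h => absurd (mem_range.mpr hm) h)]
  have h3 : a ^ (k ^ 0 + 12) = 1 := by rw [pow_zero]; exact ha
  simp only [pow_zero, one_mul]
  rw [pow_zero] at h3
  rw [h3]
  simp

/-- If every value of the norm is killed by `q`, then `13 q` kills the module. -/
theorem nsmul_eq_zero (a c : AddMonoid.End V) (ha : a ^ 13 = 1) (h0 : ∀ v, a v = v → v = 0)
    {k m : ℕ} (hac : a * c = c * a ^ k)
    (hk : ∀ j, 0 < j → j < m → ¬ 13 ∣ k ^ j + 12) (hm : 0 < m) {q : ℕ}
    (hq : ∀ v, q • (∑ j ∈ range m, (c ^ j) v) = 0) (v : V) : (13 * q) • v = 0 := by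
  have h1 := DFunLike.congr_fun (norm_sum a c ha h0 hac hk hm) v
  have h2 : q • ((∑ i ∈ range 13, a ^ i * (∑ j ∈ range m, c ^ j) * a ^ (12 * i)) v) = 0 := by
    rw [sum_app, smul_sum]
    refine sum_eq_zero fun i _ => ?_
    have h3 : (a ^ i * (∑ j ∈ range m, c ^ j) * a ^ (12 * i)) v =
        (a ^ i) (∑ j ∈ range m, (c ^ j) ((a ^ (12 * i)) v)) := by
      rw [AddMonoid.End.coe_mul, AddMonoid.End.coe_mul, Function.comp_apply, Function.comp_apply,
        sum_app]
    rw [h3, ← map_nsmul, hq, map_zero]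
  rw [h1] at h2
  have h4 : (13 : AddMonoid.End V) v = 13 • v := by
    rw [show (13 : AddMonoid.End V) = ((13 : ℕ) : AddMonoid.End V) by norm_num,
      AddMonoid.End.natCast_apply]
  rw [h4, smul_smul] at h2
  rwa [mul_comm]

end Cfsg.Agent.H220.NormSum
end

-- part: H220/ExpFour
section
/-!
# 2-groups with a Frobenius group of automorphisms of order 39

Let `K` be a finite 2-group with a fixed-point-free automorphism `ρ` of order `13`, and `y` an
automorphism of order `3` with `ρ y = y ρ ^ 3` such that `C_K(y)` has exponent `2`. Then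
`K` has exponent dividing `4`.
-/

set_option autoImplicit false

namespace Cfsg.Agent.H220.ExpFour

open Cfsg.Agent.H449 Finset
open scoped commutatorElement

universe u

/-- A coset invariant under an endomorphism of prime order not dividing the order contains a
fixed point. -/
theorem exists_fixed_coset {K : Type*} [Group K] [Finite K] {p : ℕ} [hp : Fact p.Prime]
    (hc : Nat.Coprime p (Nat.card K)) (φ : K →* K) (hφ : ∀ x, φ^[p] x = x) (N : Subgroup K)
    (hN : ∀ x ∈ N, φ x ∈ N) (x : K) (hx : x⁻¹ * φ x ∈ N) : ∃ n ∈ N, φ (x * n) = x * n := by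
  classical
  have := Fintype.ofFinite N
  let f : Function.End N := fun n => ⟨x⁻¹ * φ x * φ n, mul_mem hx (hN _ n.2)⟩
  have hf : ∀ (m : ℕ) (n : N), (((f ^ m) n : N) : K) = x⁻¹ * φ^[m] (x * n) := by
    intro m
    induction m with
    | zero =>
      intro n
      rw [pow_zero]
      change (n : K) = x⁻¹ * (x * n)
      group
    | succ m ih =>
      intro n
      rw [pow_succ', Function.iterate_succ_apply']
      change (x⁻¹ * φ x * φ ((f ^ m) n : N) : K) = _
      rw [ih, map_mul φ x⁻¹, map_inv]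
      group
  have hf1 : f ^ p ^ 1 = 1 := by
    funext n
    apply Subtype.ext
    rw [pow_one, hf, hφ]
    change x⁻¹ * (x * n) = (n : K)
    group
  have h1 := Equiv.Perm.card_fixedPoints_modEq hf1
  have h2 : Fintype.card (Function.fixedPoints f) ≠ 0 := by
    intro h0
    rw [h0] at h1
    have h3 : p ∣ Fintype.card N := (Nat.modEq_zero_iff_dvd).mp h1
    rw [← Nat.card_eq_fintype_card] at h3
    have h4 : p ∣ Nat.card K := h3.trans (Subgroup.card_subgroup_dvd_card N)
    exact hp.out.one_lt.ne' (Nat.Coprime.eq_one_of_dvd hc h4)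
  obtain ⟨n, hn⟩ := Fintype.card_pos_iff.mp (Nat.pos_of_ne_zero h2)
  refine ⟨n, n.2, ?_⟩
  have h5 : ((f n : N) : K) = n := congrArg Subtype.val hn
  change x⁻¹ * φ x * φ n = (n : K) at h5
  rw [map_mul]
  calc φ x * φ n = x * (x⁻¹ * φ x * φ n) := by group
    _ = x * n := by rw [h5]

variable {K : Type u} [Group K]

theorem lcs_inv (α : K →* K) : ∀ k, ∀ x ∈ (lcsSeries K).H k, α x ∈ (lcsSeries K).H k := by
  intro k x hx
  have h1 : α x ∈ ((⊤ : Subgroup K).lowerCentralSeries (k - 1)).map α := ⟨x, hx, rfl⟩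
  rw [Subgroup.map_lowerCentralSeries] at h1
  exact Subgroup.lowerCentralSeries_mono _ le_top h1

/-- Classes fixed by `φ` are classes of fixed elements. -/
theorem exists_fixed_rep [Finite K] {p : ℕ} [hp : Fact p.Prime]
    (hc : Nat.Coprime p (Nat.card K)) (φ : K →* K) (hφ : ∀ x, φ^[p] x = x) (k : ℕ)
    (u : (lcsSeries K).W k) (hu : (lcsSeries K).mapW φ k u = u) :
    ∃ x ∈ (lcsSeries K).H k, φ x = x ∧ (lcsSeries K).cls k x = u := by
  let S := lcsSeries K
  change S.mapW φ k u = u at hu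
  have hr := S.rep_mem u
  rw [← S.cls_rep u, S.mapW_cls (lcs_inv φ) hr, S.cls_eq_iff (lcs_inv φ _ _ hr) hr] at hu
  have h1 : (S.rep u)⁻¹ * φ (S.rep u) ∈ S.H (k + 1) := by
    have h3 := S.conj_mem hu (S.rep u)⁻¹
    have h4 : (S.rep u)⁻¹ * (φ (S.rep u) * (S.rep u)⁻¹) * (S.rep u)⁻¹⁻¹ =
        (S.rep u)⁻¹ * φ (S.rep u) := by group
    rwa [h4] at h3
  obtain ⟨n, hn, hfix⟩ := exists_fixed_coset hc φ hφ (S.H (k + 1)) (lcs_inv φ _) _ h1
  have hn' : n ∈ S.H k := S.anti (Nat.le_succ k) hn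
  refine ⟨S.rep u * n, mul_mem hr hn', hfix, ?_⟩
  rw [S.cls_mul hr hn', S.cls_eq_zero hn, add_zero, S.cls_rep]

/-- **Exponent four.** -/
theorem pow_four [Finite K] (hK : IsPGroup 2 K) (ρ y : K →* K) (hρ : ∀ x, ρ^[13] x = x)
    (hy : ∀ x, y^[3] x = x) (hρy : ∀ x, ρ (y x) = y (ρ (ρ (ρ x)))) (h0 : ∀ x, ρ x = x → x = 1)
    (hC : ∀ x, y x = x → x ^ 2 = 1) (x : K) : x ^ 4 = 1 := by
  classical
  have : Fact (Nat.Prime 13) := ⟨by norm_num⟩
  have : Fact (Nat.Prime 3) := ⟨by norm_num⟩
  have : Fact (Nat.Prime 2) := ⟨by norm_num⟩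
  obtain ⟨n, hn⟩ := IsPGroup.iff_card.mp hK
  have hc13 : Nat.Coprime 13 (Nat.card K) := by
    rw [hn]; exact Nat.Coprime.pow_right _ (by norm_num)
  have hc3 : Nat.Coprime 3 (Nat.card K) := by
    rw [hn]; exact Nat.Coprime.pow_right _ (by norm_num)
  let S := lcsSeries K
  let a : AddMonoid.End (GrLie S) := GrLie.map S (lcs_inv ρ)
  let c : AddMonoid.End (GrLie S) := GrLie.map S (lcs_inv y)
  have hap : ∀ f, (⇑a)^[13] f = f := GrLie.map_iterate S (lcs_inv ρ) 13 hρ
  have hcp : ∀ f, (⇑c)^[3] f = f := GrLie.map_iterate S (lcs_inv y) 3 hy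
  have hac : ∀ f, a (c f) = c (a (a (a f))) := by
    intro f
    refine GrLie.ext S fun k => ?_
    have hr := S.rep_mem (f k)
    change S.mapW ρ k (S.mapW y k (f k)) =
      S.mapW y k (S.mapW ρ k (S.mapW ρ k (S.mapW ρ k (f k))))
    rw [← S.cls_rep (f k), S.mapW_cls (lcs_inv y) hr, S.mapW_cls (lcs_inv ρ) (lcs_inv y _ _ hr),
      S.mapW_cls (lcs_inv ρ) hr, S.mapW_cls (lcs_inv ρ) (lcs_inv ρ _ _ hr),
      S.mapW_cls (lcs_inv ρ) (lcs_inv ρ _ _ (lcs_inv ρ _ _ hr)),
      S.mapW_cls (lcs_inv y) (lcs_inv ρ _ _ (lcs_inv ρ _ _ (lcs_inv ρ _ _ hr))), hρy]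
  have ha0 : ∀ f, a f = f → f = 0 := by
    intro f hf
    refine GrLie.ext S fun k => ?_
    obtain ⟨x, hx, hfx, hcx⟩ := exists_fixed_rep hc13 ρ hρ k (f k) (congrFun hf k)
    rw [← hcx, h0 x hfx]
    exact S.cls_one k
  -- classes fixed by `c`
  have hfixc : ∀ f : GrLie S, c f = f → ∀ k, ∃ x ∈ S.H k, x ^ 2 = 1 ∧ y x = x ∧ S.cls k x = f k := by
    intro f hf k
    obtain ⟨x, hx, hfx, hcx⟩ := exists_fixed_rep hc3 y hy k (f k) (congrFun hf k)
    exact ⟨x, hx, hC x hfx, hfx, hcx⟩
  have hNfix : ∀ f, c (f + c f + c (c f)) = f + c f + c (c f) := by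
    intro f
    have h3 : c (c (c f)) = f := hcp f
    rw [map_add, map_add, h3]
    abel
  have hN : ∀ f g, ⁅f + c f + c (c f), g + c g + c (c g)⁆ = 0 := by
    intro f g
    refine GrLie.ext S fun k => ?_
    rw [GrLie.lie_apply, GrLie.zero_apply]
    refine Finset.sum_eq_zero fun ij hij => ?_
    obtain ⟨x, hx, hx2, hyx, hcx⟩ := hfixc _ (hNfix f) ij.1
    obtain ⟨w, hw, hw2, hyw, hcw⟩ := hfixc _ (hNfix g) ij.2
    rw [← hcx, ← hcw, S.bk_cls (Finset.HasAntidiagonal.mem_antidiagonal.mp hij) hx hw]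
    have hxw : ⁅x, w⁆ = 1 := by
      rw [commutatorElement_eq_one_iff_mul_comm]
      have h1 := hC (x * w) (by rw [map_mul, hyx, hyw])
      have hx' : x⁻¹ = x := by rw [inv_eq_iff_mul_eq_one, ← pow_two, hx2]
      have hw' : w⁻¹ = w := by rw [inv_eq_iff_mul_eq_one, ← pow_two, hw2]
      have h2 : (x * w)⁻¹ = x * w := by rw [inv_eq_iff_mul_eq_one, ← pow_two, h1]
      rw [mul_inv_rev, hx', hw'] at h2
      exact h2.symm
    rw [hxw, S.cls_one]
  have h2N : ∀ f, 2 • (f + c f + c (c f)) = 0 := by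
    intro f
    refine GrLie.ext S fun k => ?_
    rw [GrLie.nsmul_apply, GrLie.zero_apply]
    obtain ⟨x, hx, hx2, hyx, hcx⟩ := hfixc _ (hNfix f) k
    rw [← hcx, ← S.cls_pow hx, hx2, S.cls_one]
  have h26 : ∀ f : GrLie S, (13 * 2) • f = 0 := by
    intro f
    refine NormSum.nsmul_eq_zero (V := GrLie S) a c ?_ ha0 (k := 3) (m := 3) ?_ ?_ (by norm_num) ?_ f
    · refine AddMonoidHom.ext fun f => ?_
      have h1 := hap f
      rw [← AddMonoid.End.coe_pow] at h1
      exact h1
    · exact AddMonoidHom.ext fun f => hac f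
    · intro j h1 h2
      interval_cases j <;> norm_num
    · intro f
      have h1 : ∑ j ∈ range 3, (c ^ j) f = f + c f + c (c f) := by
        rw [Finset.sum_range_succ, Finset.sum_range_succ, Finset.sum_range_succ,
          Finset.sum_range_zero, zero_add]
        rfl
      rw [h1]
      exact h2N f
  have h2 : ∀ f : GrLie S, 2 • f = 0 := by
    intro f
    refine GrLie.ext S fun k => ?_
    have h3 := congrFun (h26 f) k
    rw [GrLie.nsmul_apply] at h3 ⊢
    rw [GrLie.zero_apply] at h3 ⊢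
    set w := f k with hw
    have hr := S.rep_mem w
    have h4 : 2 ^ n • w = 0 := by
      rw [← S.cls_rep w, ← S.cls_pow hr, ← hn, pow_card_eq_one', S.cls_one]
    have h5 : addOrderOf w ∣ 13 * 2 := addOrderOf_dvd_of_nsmul_eq_zero h3
    have h6 : addOrderOf w ∣ 2 ^ n := addOrderOf_dvd_of_nsmul_eq_zero h4
    have h7 : Nat.Coprime (addOrderOf w) 13 :=
      Nat.Coprime.coprime_dvd_left h6 (Nat.Coprime.pow_left _ (by norm_num))
    exact addOrderOf_dvd_iff_nsmul_eq_zero.mp (h7.dvd_of_dvd_mul_left h5)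
  have hcl := LieThirteen.class_two a c (GrLie.map_lie S (lcs_inv ρ)) hap hac h2 ha0 hN
  -- `γ₃ = γ₄`
  have h3 : (⊤ : Subgroup K).lowerCentralSeries 2 ≤ (⊤ : Subgroup K).lowerCentralSeries 3 := by
    have h4 : ∀ f ∈ lieLcs (GrLie S) 2, f = 0 := by
      intro f hf
      have h5 : ∀ f ∈ lieLcs (GrLie S) 1, ∀ g : GrLie S, ⁅f, g⁆ = 0 := by
        intro f hf g
        refine AddSubgroup.closure_induction ?_ ?_ ?_ ?_ hf
        · rintro _ ⟨u, -, v, rfl⟩
          exact hcl u v g
        · exact zero_lie g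
        · intro u v _ _ hu hv
          rw [add_lie, hu, hv, add_zero]
        · intro u _ hu
          rw [neg_lie, hu, neg_zero]
      refine AddSubgroup.closure_induction ?_ ?_ ?_ ?_ hf
      · rintro _ ⟨u, hu, v, rfl⟩
        exact h5 u hu v
      · rfl
      · intro u v _ _ hu hv
        rw [hu, hv, add_zero]
      · intro u _ hu
        rw [hu, neg_zero]
    intro x hx
    have hx' : x ∈ S.H 3 := hx
    have h5 := h4 _ (mem_lieLcs 2 x hx)
    have h6 : S.cls 3 x = 0 := by
      have h7 := congrFun h5 3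
      rw [GrLie.single_same] at h7
      exact h7
    exact S.mem_of_cls_eq_zero hx' h6
  -- `γ₃ = 1`
  have h4 : (⊤ : Subgroup K).lowerCentralSeries 2 = ⊥ := by
    have hnil : Group.IsNilpotent K := hK.isNilpotent
    obtain ⟨m, hm⟩ := Subgroup.nilpotent_iff_lowerCentralSeries.mp hnil
    have h5 : ∀ m : ℕ, (⊤ : Subgroup K).lowerCentralSeries 2 ≤
        (⊤ : Subgroup K).lowerCentralSeries (m + 2) := by
      intro m
      induction m with
      | zero => exact le_rfl
      | succ m ih =>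
        refine h3.trans ?_
        rw [Subgroup.lowerCentralSeries_succ, show m + 1 + 2 = (m + 2) + 1 by ring,
          Subgroup.lowerCentralSeries_succ]
        exact Subgroup.commutator_mono ih le_rfl
    refine le_bot_iff.mp ((h5 m).trans ?_)
    rw [← hm]
    exact Subgroup.lowerCentralSeries_antitone _ (by omega)
  have h5 : ∀ k, ∀ x ∈ S.H k, x ^ 2 ∈ S.H (k + 1) := by
    intro k x hx
    apply S.mem_of_cls_eq_zero (pow_mem hx 2)
    have h6 := congrFun (h2 (GrLie.single S k (S.cls k x))) k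
    rw [GrLie.nsmul_apply, GrLie.single_same] at h6
    rw [S.cls_pow hx]
    exact h6
  have h6 : x ^ 4 ∈ S.H 3 := by
    have h7 := h5 2 (x ^ 2) (h5 1 x (by rw [S.one]; trivial))
    rwa [← pow_mul] at h7
  have h7 : x ^ 4 ∈ (⊤ : Subgroup K).lowerCentralSeries 2 := h6
  rw [h4] at h7
  exact h7

end Cfsg.Agent.H220.ExpFour
end

-- part: H220/CaseB
section
/-!
# The spectrum `1, 2, 3, 4, 6, 8, 13`: no proper cover of a Frobenius group of order `13 m`
-/

set_option autoImplicit false
set_option linter.unusedSectionVars false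

namespace Cfsg.Agent.H220.Spec

open ConjRep

attribute [local instance] ConjRep.commGroupM

variable {G : Type*} [Group G] [Finite G]

/-- Elements of order dividing `q` in the centre of the normal subgroup `K`. -/
def omegaCenter (K : Subgroup G) (q : ℕ) : Subgroup G where
  carrier := {v | v ∈ K ∧ (∀ k ∈ K, v * k = k * v) ∧ v ^ q = 1}
  one_mem' := ⟨one_mem K, fun k _ => by rw [one_mul, mul_one], one_pow q⟩
  mul_mem' := by
    rintro a b ⟨ha, ha1, ha2⟩ ⟨hb, hb1, hb2⟩
    refine ⟨mul_mem ha hb, fun k hk => ?_, ?_⟩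
    · rw [mul_assoc, hb1 k hk, ← mul_assoc, ha1 k hk, mul_assoc]
    · rw [(show Commute a b from ha1 b hb).mul_pow, ha2, hb2, one_mul]
  inv_mem' := by
    rintro a ⟨ha, ha1, ha2⟩
    refine ⟨inv_mem ha, fun k hk => ?_, by rw [inv_pow, ha2, inv_one]⟩
    calc a⁻¹ * k = a⁻¹ * (k * a) * a⁻¹ := by group
      _ = a⁻¹ * (a * k) * a⁻¹ := by rw [ha1 k hk]
      _ = k * a⁻¹ := by group

theorem omegaCenter_normal (K : Subgroup G) [hK : K.Normal] (q : ℕ) : (omegaCenter K q).Normal := by
  constructor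
  rintro v ⟨hv, hv1, hv2⟩ g
  refine ⟨hK.conj_mem v hv g, fun k hk => ?_, ?_⟩
  · have h1 : g⁻¹ * k * g ∈ K := by
      have := hK.conj_mem k hk g⁻¹
      rwa [inv_inv] at this
    calc g * v * g⁻¹ * k = g * (v * (g⁻¹ * k * g)) * g⁻¹ := by group
      _ = g * ((g⁻¹ * k * g) * v) * g⁻¹ := by rw [hv1 _ h1]
      _ = k * (g * v * g⁻¹) := by group
  · rw [conj_pow, hv2]; group

theorem omegaCenter_comm (K : Subgroup G) (q : ℕ) : IsMulCommutative (omegaCenter K q) :=
  ⟨⟨fun a b => Subtype.ext (a.2.2.1 b b.2.1)⟩⟩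

theorem omegaCenter_ne_bot (K : Subgroup G) [K.Normal] (hnil : Group.IsNilpotent K) {q : ℕ}
    (hq : q.Prime) (hqK : q ∣ Nat.card K) : omegaCenter K q ≠ ⊥ := by
  have := Fact.mk hq
  -- the Sylow subgroup is normal and meets the centre
  obtain ⟨S⟩ : Nonempty (Sylow q K) := inferInstance
  have hS : (S : Subgroup K).Normal := by
    have h := (Group.isNilpotent_of_finite_tfae (G := K)).out 0 3
    exact h.mp hnil q inferInstance S
  have hSne : (S : Subgroup K) ≠ ⊥ := by
    intro h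
    have h1 := S.dvd_card_of_dvd_card hqK
    rw [h, Subgroup.card_bot] at h1
    exact hq.one_lt.ne' (Nat.dvd_one.mp h1)
  have h1 := Cfsg.Agent.Lib.NormalAbelian.normal_inf_center_ne_bot (S : Subgroup K) hSne
  obtain ⟨s, hs⟩ := Subgroup.ne_bot_iff_exists_ne_one.mp h1
  -- a power of `s` has order `q`
  have h2 : q ∣ orderOf (s : K) := by
    obtain ⟨k, hk⟩ := IsPGroup.iff_orderOf.mp S.isPGroup' ⟨s, s.2.1⟩
    rw [Subgroup.orderOf_mk] at hk
    rw [hk]
    apply dvd_pow_self
    rintro rfl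
    rw [pow_zero] at hk
    exact hs (Subtype.ext (orderOf_eq_one_iff.mp hk))
  obtain ⟨k, hk⟩ := BinOct.exists_pow_orderOf (s : K) h2
  intro hbot
  have h3 : (((s : K) ^ k : K) : G) ∈ omegaCenter K q := by
    refine ⟨((s : K) ^ k).2, fun g hg => ?_, ?_⟩
    · have h4 : (s : K) ^ k ∈ Subgroup.center K := pow_mem s.2.2 k
      have h5 := Subgroup.mem_center_iff.mp h4 ⟨g, hg⟩
      exact (congrArg Subtype.val h5).symm
    · have h4 : ((s : K) ^ k) ^ q = 1 := by
        rw [← orderOf_dvd_iff_pow_eq_one, hk]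
      exact congrArg Subtype.val h4
  rw [hbot, Subgroup.mem_bot] at h3
  have h4 : (s : K) ^ k = 1 := Subtype.ext h3
  rw [h4, orderOf_one] at hk
  exact hq.one_lt.ne hk

/-- The norm of an element of the normalizer of a fixed-point-free group of order 13 is nonzero. -/
theorem exists_norm_ne (V : Subgroup G) [V.Normal] [IsMulCommutative V] (hV : V ≠ ⊥) {ρ c : G}
    (hρ : ρ ^ 13 = 1) (hfix : ∀ v ∈ V, ρ * v * ρ⁻¹ = v → v = 1) {k m q : ℕ}
    (hρc : ρ * c = c * ρ ^ k) (hk : ∀ j, 0 < j → j < m → ¬ 13 ∣ k ^ j + 12) (hm : 0 < m)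
    (hq : ∀ v ∈ V, v ^ q = 1) (hcop : Nat.Coprime q 13) :
    ∃ v : Additive V, (∑ j ∈ Finset.range m, ((act V c) ^ j) v) ≠ 0 := by
  by_contra hno
  push Not at hno
  apply hV
  rw [eq_bot_iff]
  intro g hg
  rw [Subgroup.mem_bot]
  have h1 := NormSum.nsmul_eq_zero (V := Additive V) (act V ρ) (act V c)
    (by rw [← act_pow, hρ, act_one]) (fun v hv => val_injective V (by
      rw [val_zero]
      apply hfix _ (val_mem V v)
      rw [← val_act, hv])) (k := k) (m := m) (by rw [← act_mul, hρc, act_mul, act_pow]) hk hm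
    (q := 1) (fun v => by rw [one_smul]; exact hno v) (mk V g hg)
  have h2 : g ^ 13 = 1 := by
    have h3 := congrArg (val V) h1
    rw [val_nsmul, val_mk, val_zero] at h3
    exact h3
  have h3 := hq g hg
  have h4 : orderOf g ∣ q := orderOf_dvd_of_pow_eq_one h3
  have h5 : orderOf g ∣ 13 := orderOf_dvd_of_pow_eq_one h2
  exact orderOf_eq_one_iff.mp (Nat.eq_one_of_dvd_coprimes hcop h4 h5)

/-- The conclusion for four-fold norms. -/
theorem exists_fixed_four (V : Subgroup G) [V.Normal] [IsMulCommutative V] (hV : V ≠ ⊥) {ρ c : G}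
    (hρ : ρ ^ 13 = 1) (hfix : ∀ v ∈ V, ρ * v * ρ⁻¹ = v → v = 1) {k q : ℕ}
    (hρc : ρ * c = c * ρ ^ k) (hk : ∀ j, 0 < j → j < 4 → ¬ 13 ∣ k ^ j + 12) (hc : c ^ 4 = 1)
    (hq : ∀ v ∈ V, v ^ q = 1) (hcop : Nat.Coprime q 13) : ∃ v ∈ V, v ≠ 1 ∧ c * v * c⁻¹ = v := by
  obtain ⟨v, hv⟩ := exists_norm_ne V hV hρ hfix hρc hk (by norm_num) hq hcop
  refine ⟨val V (∑ j ∈ Finset.range 4, ((act V c) ^ j) v), val_mem V _, fun h => hv ?_, ?_⟩
  · apply val_injective
    rw [h, val_zero]
  · rw [← val_act]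
    congr 1
    have h4 : ((act V c) ^ 4) v = v := by rw [← act_pow, hc, act_one]; rfl
    have h5 : ∀ j, act V c (((act V c) ^ j) v) = ((act V c) ^ (j + 1)) v := by
      intro j; rw [pow_succ']; rfl
    rw [map_sum, Finset.sum_congr rfl (fun j _ => h5 j), Finset.sum_range_succ, h4,
      Finset.sum_range_succ' (n := 3)]
    rw [pow_zero]
    rfl

/-- The conclusion for six-fold norms on an elementary abelian 2-group. -/
theorem exists_fixed_six (V : Subgroup G) [V.Normal] [IsMulCommutative V] (hV : V ≠ ⊥) {ρ c : G}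
    (hρ : ρ ^ 13 = 1) (hfix : ∀ v ∈ V, ρ * v * ρ⁻¹ = v → v = 1) {k : ℕ}
    (hρc : ρ * c = c * ρ ^ k) (hk : ∀ j, 0 < j → j < 6 → ¬ 13 ∣ k ^ j + 12) (hc : c ^ 6 = 1)
    (hq : ∀ v ∈ V, v ^ 2 = 1) :
    ∃ v ∈ V, c ^ 2 * v * (c ^ 2)⁻¹ = v ∧ c ^ 3 * v * (c ^ 3)⁻¹ ≠ v := by
  obtain ⟨v, hv⟩ := exists_norm_ne V hV hρ hfix hρc hk (by norm_num) hq (by norm_num)
  by_contra hno
  push Not at hno
  apply hv
  set C := act V c with hC
  have hC6 : C ^ 6 = 1 := by rw [hC, ← act_pow, hc, act_one]
  have hap : ∀ i j : ℕ, (C ^ i) ((C ^ j) v) = (C ^ (i + j)) v := by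
    intro i j; rw [pow_add]; rfl
  have h6 : ∀ j, (C ^ (6 + j)) v = (C ^ j) v := by
    intro j; rw [pow_add, hC6, one_mul]
  set w := (C ^ 0) v + (C ^ 2) v + (C ^ 4) v with hw
  have hw2 : (C ^ 2) w = w := by
    rw [hw, map_add, map_add, hap, hap, hap, show 2 + 4 = 6 + 0 by norm_num, h6]
    abel
  have hw3 : (C ^ 3) w = w := by
    apply val_injective
    rw [hC, ← act_pow, val_act]
    apply hno _ (val_mem V w)
    rw [← val_act, act_pow, ← hC, hw2]
  have h7 : ∑ j ∈ Finset.range 6, (C ^ j) v = w + (C ^ 3) w := by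
    have h8 : (C ^ 3) w = (C ^ 3) v + (C ^ 5) v + (C ^ 1) v := by
      rw [hw, map_add, map_add, hap, hap, hap, show 3 + 4 = 6 + 1 by norm_num, h6]
    rw [h8, hw]
    simp only [Finset.sum_range_succ, Finset.sum_range_zero]
    abel
  rw [h7, hw3]
  apply val_injective
  rw [val_add, val_zero, ← pow_two]
  exact hq _ (val_mem V w)

theorem conj_mul_pow {ρ n m : G} {a b : ℕ} (hn : n * ρ * n⁻¹ = ρ ^ a) (hm : m * ρ * m⁻¹ = ρ ^ b) :
    n * m * ρ * (n * m)⁻¹ = ρ ^ (a * b) := by
  calc n * m * ρ * (n * m)⁻¹ = n * (m * ρ * m⁻¹) * n⁻¹ := by group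
    _ = (n * ρ * n⁻¹) ^ b := by rw [hm, conj_pow]
    _ = ρ ^ (a * b) := by rw [hn, ← pow_mul]

theorem conj_pow_pow {ρ n : G} {a : ℕ} (hn : n * ρ * n⁻¹ = ρ ^ a) (j : ℕ) :
    n ^ j * ρ * (n ^ j)⁻¹ = ρ ^ (a ^ j) := by
  induction j with
  | zero => simp
  | succ j ih =>
    rw [pow_succ, pow_succ]
    exact conj_mul_pow ih hn

theorem pow_eq_pow_zmod {ρ : G} (hρ : orderOf ρ = 13) {a b : ℕ} :
    ρ ^ a = ρ ^ b ↔ (a : ZMod 13) = b := by
  rw [pow_eq_pow_iff_modEq, hρ, ZMod.natCast_eq_natCast_iff]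

theorem zm8 : ∀ a : ZMod 13, a ^ 8 = 1 → a = 1 ∨ a = 12 ∨ a = 5 ∨ a = 8 := by decide

theorem zm3 : ∀ a : ZMod 13, a ^ 3 = 1 → a = 1 ∨ a = 3 ∨ a = 9 := by decide

theorem zm6 : ∀ d ∈ ({1, 2, 3, 4, 6, 8, 13} : Finset ℕ), (6 : ZMod 13) ^ d ≠ 1 := by decide

theorem zm7 : ∀ d ∈ ({1, 2, 3, 4, 6, 8, 13} : Finset ℕ), (7 : ZMod 13) ^ d ≠ 1 := by decide

theorem zm4 : ∀ d ∈ ({1, 2, 3, 4, 6, 8, 13} : Finset ℕ), (4 : ZMod 13) ^ d = 1 → d = 6 := by
  decide

theorem zm84 : ∀ a : ZMod 13, (a = 1 ∨ a = 12 ∨ a = 5 ∨ a = 8) → a ^ 4 = 1 := by decide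

theorem zm82 : ∀ a : ZMod 13, (a = 1 ∨ a = 12) → a ^ 2 = 1 := by decide

theorem zm58 : (5 : ZMod 13) * ((8 : ℕ) : ZMod 13) = 1 := by decide

theorem zm85 : (8 : ZMod 13) * ((5 : ℕ) : ZMod 13) = 1 := by decide

theorem zm39 : (3 : ZMod 13) * ((9 : ℕ) : ZMod 13) = 1 := by decide

theorem zm93 : (9 : ZMod 13) * ((3 : ℕ) : ZMod 13) = 1 := by decide

theorem zm410 : (12 : ZMod 13) * ((9 : ℕ) : ZMod 13) = 4 := by decide

theorem zm59 : (5 : ZMod 13) * ((9 : ℕ) : ZMod 13) = 6 := by decide

theorem zm89 : (8 : ZMod 13) * ((9 : ℕ) : ZMod 13) = 7 := by decide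

theorem zm4_10 : (4 : ZMod 13) * ((10 : ℕ) : ZMod 13) = 1 := by decide

/-- **Case B.** -/
theorem caseB (hΩ : ∀ g : G, orderOf g ∈ Om) (h3 : ∃ g : G, orderOf g = 3)
    (h8 : ∃ g : G, orderOf g = 8) (K : Subgroup G) [hKn : K.Normal] (hK13 : ¬ 13 ∣ Nat.card K)
    (hKs : Group.IsSolvable K) {ρ : G} (hρ : orderOf ρ = 13)
    (hC : ∀ g, g * ρ = ρ * g → g ∈ Subgroup.zpowers ρ)
    (hfact : ∀ g : G, ∃ k ∈ K, ∃ n : G, n * ρ * n⁻¹ ∈ Subgroup.zpowers ρ ∧ g = k * n) : False := by
  classical
  have : Fact (Nat.Prime 13) := ⟨by norm_num⟩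
  have : Fact (Nat.Prime 3) := ⟨by norm_num⟩
  have : Fact (Nat.Prime 2) := ⟨by norm_num⟩
  have hρ13 : ρ ^ 13 = 1 := by rw [← hρ]; exact pow_orderOf_eq_one ρ
  have hρfin : IsOfFinOrder ρ := isOfFinOrder_of_finite ρ
  -- no fixed points on `K`
  have hKord : ∀ k ∈ K, ¬ 13 ∣ orderOf k := fun k hk h =>
    hK13 (h.trans (Subgroup.orderOf_dvd_natCard K hk))
  have hKfix : ∀ k ∈ K, k * ρ = ρ * k → k = 1 := fun k hk hkρ =>
    eq_one_of_comm hΩ hρ hkρ.symm (hKord k hk)
  have hKfix' : ∀ k ∈ K, ρ * k * ρ⁻¹ = k → k = 1 := by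
    intro k hk h
    apply hKfix k hk
    calc k * ρ = (ρ * k * ρ⁻¹) * ρ := by rw [h]
      _ = ρ * k := by group
  -- `K ∩ N = 1`
  have hKN : ∀ k ∈ K, k * ρ * k⁻¹ ∈ Subgroup.zpowers ρ → k = 1 := by
    intro k hk h
    apply hKfix k hk
    have h1 : k * ρ * k⁻¹ * ρ⁻¹ ∈ K := by
      have h2 : k * (ρ * k⁻¹ * ρ⁻¹) ∈ K := mul_mem hk (hKn.conj_mem _ (inv_mem hk) ρ)
      have h3 : k * ρ * k⁻¹ * ρ⁻¹ = k * (ρ * k⁻¹ * ρ⁻¹) := by group
      rwa [h3]
    have h2 : k * ρ * k⁻¹ * ρ⁻¹ ∈ Subgroup.zpowers ρ :=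
      mul_mem h (inv_mem (Subgroup.mem_zpowers ρ))
    have h3 : k * ρ * k⁻¹ * ρ⁻¹ = 1 := by
      have h4 : orderOf (k * ρ * k⁻¹ * ρ⁻¹) ∣ 13 := by
        have h5 := Subgroup.orderOf_dvd_natCard _ h2
        rwa [Nat.card_zpowers, hρ] at h5
      rcases (Nat.dvd_prime (by norm_num)).mp h4 with h5 | h5
      · exact orderOf_eq_one_iff.mp h5
      · exact absurd (by rw [h5]) (hKord _ h1)
    calc k * ρ = (k * ρ * k⁻¹ * ρ⁻¹) * (ρ * k) := by group
      _ = ρ * k := by rw [h3, one_mul]
  -- exponents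
  have hexp : ∀ n : G, n * ρ * n⁻¹ ∈ Subgroup.zpowers ρ → ∃ a : ℕ, n * ρ * n⁻¹ = ρ ^ a := by
    intro n hn
    obtain ⟨a, ha⟩ := hρfin.mem_powers_iff_mem_zpowers.mpr hn
    exact ⟨a, ha.symm⟩
  have hpowK : ∀ (g k n : G), k ∈ K → g = k * n → ∀ j : ℕ, g ^ j * (n ^ j)⁻¹ ∈ K := by
    intro g k n hk hg j
    have h1 : (QuotientGroup.mk' K) (g ^ j * (n ^ j)⁻¹) = 1 := by
      rw [hg, map_mul, map_inv, map_pow, map_pow, map_mul,
        show (QuotientGroup.mk' K) k = 1 from (QuotientGroup.eq_one_iff k).mpr hk, one_mul,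
        mul_inv_cancel]
    exact (QuotientGroup.eq_one_iff _).mp h1
  -- if `g ^ j = 1` then `n ^ j = 1`
  have hpow1 : ∀ (g k n : G) (a j : ℕ), k ∈ K → g = k * n → n * ρ * n⁻¹ = ρ ^ a → g ^ j = 1 →
      n ^ j = 1 := by
    intro g k n a j hk hg hn hgj
    have h1 := hpowK g k n hk hg j
    rw [hgj, one_mul] at h1
    have h2 : n ^ j ∈ K := by
      have := inv_mem h1
      rwa [inv_inv] at this
    apply hKN _ h2
    rw [conj_pow_pow hn]
    exact Subgroup.npow_mem_zpowers ρ _
  -- `a = 1` forces `n ∈ ⟨ρ⟩`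
  have hone : ∀ (n : G) (a j : ℕ), n * ρ * n⁻¹ = ρ ^ a → (a : ZMod 13) = 1 → n ^ j = 1 →
      Nat.Coprime j 13 → n = 1 := by
    intro n a j hn ha hj hcop
    have h1 : n * ρ * n⁻¹ = ρ := by
      rw [hn]
      conv_rhs => rw [← pow_one ρ]
      rw [pow_eq_pow_zmod hρ, ha, Nat.cast_one]
    have h2 : n ∈ Subgroup.zpowers ρ := by
      apply hC
      calc n * ρ = (n * ρ * n⁻¹) * n := by group
        _ = ρ * n := by rw [h1]
    have h3 : orderOf n ∣ 13 := by
      have h5 := Subgroup.orderOf_dvd_natCard _ h2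
      rwa [Nat.card_zpowers, hρ] at h5
    exact orderOf_eq_one_iff.mp (Nat.eq_one_of_dvd_coprimes hcop (orderOf_dvd_of_pow_eq_one hj) h3)
  -- the inverse exponent
  have hinvexp0 : ∀ (n : G) (a k : ℕ), n * ρ * n⁻¹ = ρ ^ a → (a : ZMod 13) * k = 1 →
      ρ * n = n * ρ ^ k := by
    intro n a k ha hk
    have h1 : n * ρ ^ k * n⁻¹ = ρ := by
      rw [← conj_pow, ha, ← pow_mul]
      conv_rhs => rw [← pow_one ρ]
      rw [pow_eq_pow_zmod hρ]
      push_cast
      exact hk
    calc ρ * n = (n * ρ ^ k * n⁻¹) * n := by rw [h1]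
      _ = n * ρ ^ k := by group
  -- the element of order 8
  obtain ⟨x, hx⟩ := h8
  have hx8 : x ^ 8 = 1 := by rw [← hx]; exact pow_orderOf_eq_one x
  obtain ⟨k₀, hk₀, n, hnN, hxn⟩ := hfact x
  obtain ⟨a, ha⟩ := hexp n hnN
  have hn8 := hpow1 x k₀ n a 8 hk₀ hxn ha hx8
  have ha8 : (a : ZMod 13) ^ 8 = 1 := by
    have h1 := conj_pow_pow ha 8
    rw [hn8, one_mul, inv_one, mul_one] at h1
    have h2 : ρ ^ 1 = ρ ^ (a ^ 8) := by rw [pow_one]; exact h1
    rw [pow_eq_pow_zmod hρ] at h2
    push_cast at h2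
    exact h2.symm
  have ha' := zm8 _ ha8
  have hn4 : n ^ 4 = 1 := by
    have h1 := conj_pow_pow ha 4
    refine hone (n ^ 4) (a ^ 4) 2 h1 ?_ (by rw [← pow_mul]; exact hn8) (by norm_num)
    push_cast
    exact zm84 _ ha'
  have hn2 : (a : ZMod 13) = 1 ∨ (a : ZMod 13) = 12 → n ^ 2 = 1 := by
    intro h
    have h1 := conj_pow_pow ha 2
    refine hone (n ^ 2) (a ^ 2) 4 h1 ?_ (by rw [← pow_mul]; exact hn8) (by norm_num)
    push_cast
    exact zm82 _ h
  -- nilpotency of `K`
  have hnil : Group.IsNilpotent K := by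
    apply Cfsg.Agent.OddOrderLocal.FpfSolvable.isNilpotent_of_fpf_elem K hKs ρ
      (by rw [Subgroup.normalizer_eq_top]; trivial) (show Nat.Prime 13 by norm_num) hρ13
    intro x hx h
    exact hKfix x hx h.symm
  by_cases h3K : 3 ∣ Nat.card K
  · -- (i)
    let V := omegaCenter K 3
    have hVn : V.Normal := omegaCenter_normal K 3
    have hVc : IsMulCommutative V := omegaCenter_comm K 3
    have hVb : V ≠ ⊥ := omegaCenter_ne_bot K hnil Nat.prime_three h3K
    have hVK : ∀ v ∈ V, v ∈ K := fun v hv => hv.1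
    have hV3 : ∀ v ∈ V, v ≠ 1 → orderOf v = 3 := fun v hv hv1 => orderOf_eq_prime hv.2.2 hv1
    have hx2 : orderOf (x ^ 2) = 4 := by
      rw [orderOf_pow_of_dvd (by norm_num) (by rw [hx]; norm_num), hx]
    have hmain : (a : ZMod 13) = 1 ∨ (a : ZMod 13) = 12 → False := by
      intro h
      have h1 := hpowK x k₀ n hk₀ hxn 2
      rw [hn2 h, inv_one, mul_one] at h1
      obtain ⟨v, hv⟩ := Subgroup.ne_bot_iff_exists_ne_one.mp hVb
      exact no_twelve hΩ (hV3 v v.2 (fun h => hv (Subtype.ext h))) hx2 (v.2.2.1 _ h1)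
    have hmain2 : ∀ k : ℕ, ρ * n = n * ρ ^ k → (∀ j, 0 < j → j < 4 → ¬ 13 ∣ k ^ j + 12) →
        False := by
      intro k hk1 hk2
      obtain ⟨v, hv, hv1, hvn⟩ := exists_fixed_four V hVb hρ13 (fun v hv => hKfix' v (hVK v hv))
        hk1 hk2 hn4 (q := 3) (fun v hv => hv.2.2) (by norm_num)
      apply no_twelve hΩ (hV3 v hv hv1) hx2
      have h1 : v * x = x * v := by
        rw [hxn]
        calc v * (k₀ * n) = (v * k₀) * n := by group
          _ = (k₀ * v) * n := by rw [hv.2.1 k₀ hk₀]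
          _ = k₀ * ((n * v * n⁻¹) * n) := by rw [hvn]; group
          _ = k₀ * n * v := by group
      rw [pow_two, ← mul_assoc, h1, mul_assoc, h1, ← mul_assoc]
    have hinvexp : ∀ k : ℕ, (a : ZMod 13) * k = 1 → ρ * n = n * ρ ^ k :=
      fun k hk => hinvexp0 n a k ha hk
    rcases ha' with h | h | h | h
    · exact hmain (Or.inl h)
    · exact hmain (Or.inr h)
    · apply hmain2 8 (hinvexp 8 (by rw [h]; exact zm58))
      intro j h1 h2
      interval_cases j <;> norm_num
    · apply hmain2 5 (hinvexp 5 (by rw [h]; exact zm85))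
      intro j h1 h2
      interval_cases j <;> norm_num
  · -- (ii)
    have hK2 : IsPGroup 2 K := by
      intro k
      have h1 : orderOf k ∈ Om := by rw [← Subgroup.orderOf_coe]; exact hΩ k
      have h2 : ¬ 3 ∣ orderOf k := fun h => h3K (h.trans (orderOf_dvd_natCard k))
      have h3 : ¬ 13 ∣ orderOf k := fun h => hK13 (h.trans (orderOf_dvd_natCard k))
      refine ⟨3, ?_⟩
      apply orderOf_dvd_iff_pow_eq_one.mp
      rcases mem_Om.mp h1 with h | h | h | h | h | h | h <;>
        first | (exfalso; omega) | (rw [h]; norm_num)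
    -- the element of order 3 in the normalizer
    obtain ⟨y₀, hy₀⟩ := h3
    have hy₀3 : y₀ ^ 3 = 1 := by rw [← hy₀]; exact pow_orderOf_eq_one y₀
    obtain ⟨k₁, hk₁, y₁, hy₁N, hy₁⟩ := hfact y₀
    obtain ⟨b, hb⟩ := hexp y₁ hy₁N
    have hy₁3 := hpow1 y₀ k₁ y₁ b 3 hk₁ hy₁ hb hy₀3
    have hy₁1 : y₁ ≠ 1 := by
      intro h
      rw [h, mul_one] at hy₁
      apply h3K
      rw [← hy₀, hy₁]
      exact Subgroup.orderOf_dvd_natCard K hk₁
    have hb3 : (b : ZMod 13) ^ 3 = 1 := by
      have h1 := conj_pow_pow hb 3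
      rw [hy₁3, one_mul, inv_one, mul_one] at h1
      have h2 : ρ ^ 1 = ρ ^ (b ^ 3) := by rw [pow_one]; exact h1
      rw [pow_eq_pow_zmod hρ] at h2
      push_cast at h2
      exact h2.symm
    obtain ⟨y, hy3, hy1, hyρ⟩ : ∃ y : G, y ^ 3 = 1 ∧ y ≠ 1 ∧ y * ρ * y⁻¹ = ρ ^ 9 := by
      rcases zm3 _ hb3 with h | h | h
      · exact absurd (hone y₁ b 3 hb h hy₁3 (by norm_num)) hy₁1
      · refine ⟨y₁⁻¹, by rw [inv_pow, hy₁3, inv_one], fun h => hy₁1 (inv_eq_one.mp h), ?_⟩
        have h1 := hinvexp0 y₁ b 9 hb (by rw [h]; exact zm39)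
        rw [inv_inv, mul_assoc, h1]
        group
      · refine ⟨y₁, hy₁3, hy₁1, ?_⟩
        rw [hb, pow_eq_pow_zmod hρ, h]
        norm_num
    have hyord : orderOf y = 3 := orderOf_eq_prime hy3 hy1
    have hρy : ρ * y = y * ρ ^ 3 := hinvexp0 y 9 3 hyρ (by push_cast; exact zm93)
    have hny : n * y * ρ * (n * y)⁻¹ = ρ ^ (a * 9) := conj_mul_pow ha hyρ
    have hordny : ∀ c : ZMod 13, (a : ZMod 13) * ((9 : ℕ) : ZMod 13) = c →
        c ^ (orderOf (n * y)) = 1 := by
      intro c hc
      have h1 := conj_pow_pow hny (orderOf (n * y))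
      rw [pow_orderOf_eq_one, one_mul, inv_one, mul_one] at h1
      have h2 : ρ ^ 1 = ρ ^ ((a * 9) ^ orderOf (n * y)) := by rw [pow_one]; exact h1
      rw [pow_eq_pow_zmod hρ] at h2
      rw [← hc]
      rw [Nat.cast_pow, Nat.cast_mul, Nat.cast_one] at h2
      exact h2.symm
    have hmemny : orderOf (n * y) ∈ ({1, 2, 3, 4, 6, 8, 13} : Finset ℕ) := by
      have := hΩ (n * y)
      simpa only [Om, _root_.Finset.mem_insert, _root_.orderOf_eq_one_iff, _root_.Finset.mem_singleton, _root_.Set.mem_insert_iff, _root_.Set.mem_singleton_iff] using this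
    rcases ha' with h | h | h | h
    · -- `x ∈ K`
      have hn1 : n = 1 := hone n a 4 ha h hn4 (by norm_num)
      rw [hn1, mul_one] at hxn
      have hxK : x ∈ K := by rw [hxn]; exact hk₀
      let P : K →* K := ((MulAut.conjNormal ρ : K ≃* K) : K →* K)
      let Y : K →* K := ((MulAut.conjNormal y : K ≃* K) : K →* K)
      have hP : ∀ k : K, ((P k : K) : G) = ρ * k * ρ⁻¹ := fun k => MulAut.conjNormal_apply ρ k
      have hY : ∀ k : K, ((Y k : K) : G) = y * k * y⁻¹ := fun k => MulAut.conjNormal_apply y k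
      have hPi : ∀ (j : ℕ) (k : K), ((P^[j] k : K) : G) = ρ ^ j * k * (ρ ^ j)⁻¹ := by
        intro j
        induction j with
        | zero => intro k; simp
        | succ j ih =>
          intro k
          rw [Function.iterate_succ_apply, ih, hP]
          group
      have hYi : ∀ (j : ℕ) (k : K), ((Y^[j] k : K) : G) = y ^ j * k * (y ^ j)⁻¹ := by
        intro j
        induction j with
        | zero => intro k; simp
        | succ j ih =>
          intro k
          rw [Function.iterate_succ_apply, ih, hY]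
          group
      have h4 := ExpFour.pow_four hK2 P Y
        (fun k => Subtype.ext (by rw [hPi, hρ13]; group))
        (fun k => Subtype.ext (by rw [hYi, hy3]; group))
        (fun k => Subtype.ext (by
          rw [hP, hY, hY, hP, hP, hP]
          calc ρ * (y * k * y⁻¹) * ρ⁻¹ = (ρ * y) * k * (ρ * y)⁻¹ := by group
            _ = (y * ρ ^ 3) * k * (y * ρ ^ 3)⁻¹ := by rw [hρy]
            _ = y * (ρ * (ρ * (ρ * k * ρ⁻¹) * ρ⁻¹) * ρ⁻¹) * y⁻¹ := by
              simp only [pow_succ, pow_zero, one_mul, mul_inv_rev, mul_assoc]))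
        (fun k hk => by
          have h1 := congrArg Subtype.val hk
          rw [hP] at h1
          exact Subtype.ext (hKfix' k k.2 h1))
        (fun k hk => by
          have h1 := congrArg Subtype.val hk
          rw [hY] at h1
          by_contra hk2
          obtain ⟨m, hm⟩ := IsPGroup.iff_orderOf.mp hK2 k
          have h2 : 4 ∣ orderOf k := by
            rw [hm, show 4 = 2 ^ 2 by norm_num]
            apply pow_dvd_pow
            by_contra hlt
            push Not at hlt
            apply hk2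
            apply orderOf_dvd_iff_pow_eq_one.mp
            rw [hm]
            conv_rhs => rw [← pow_one 2]
            exact pow_dvd_pow 2 (by omega)
          obtain ⟨j, hj⟩ := BinOct.exists_pow_orderOf k h2
          apply no_twelve hΩ hyord (y := ((k ^ j : K) : G))
            (by rw [Subgroup.orderOf_coe, hj])
          have h3 : y * (k : G) = k * y := by
            calc y * (k : G) = (y * k * y⁻¹) * y := by group
              _ = k * y := by rw [h1]
          rw [Subgroup.coe_pow]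
          exact (show Commute y (k : G) from h3).pow_right j)
        ⟨x, hxK⟩
      have h5 : x ^ 4 = 1 := congrArg Subtype.val h4
      have h6 := orderOf_dvd_of_pow_eq_one h5
      rw [hx] at h6
      exact absurd h6 (by norm_num)
    · -- order 6
      have hc4 := hordny 4 (by rw [h]; exact zm410)
      have hc6 := zm4 _ hmemny hc4
      set c := n * y with hc
      have hcpow : c ^ 6 = 1 := by rw [← hc6]; exact pow_orderOf_eq_one c
      have hρc : ρ * c = c * ρ ^ 10 := by
        apply hinvexp0 c (a * 9) 10 hny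
        rw [Nat.cast_mul, h, zm410]
        exact zm4_10
      let V := omegaCenter K 2
      have hVn : V.Normal := omegaCenter_normal K 2
      have hVc : IsMulCommutative V := omegaCenter_comm K 2
      have h2K : 2 ∣ Nat.card K := by
        have h1 := hpowK x k₀ n hk₀ hxn 2
        rw [hn2 (Or.inr h), inv_one, mul_one] at h1
        have h2 := Subgroup.orderOf_dvd_natCard K h1
        rw [orderOf_pow_of_dvd (by norm_num) (by rw [hx]; norm_num), hx] at h2
        exact dvd_trans (by norm_num) h2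
      have hVb : V ≠ ⊥ := omegaCenter_ne_bot K hnil Nat.prime_two h2K
      obtain ⟨v, hv, hv2, hv3⟩ := exists_fixed_six V hVb hρ13 (fun v hv => hKfix' v hv.1) hρc
        (by intro j h1 h2; interval_cases j <;> norm_num) hcpow (fun v hv => hv.2.2)
      set v' := c ^ 3 * v * (c ^ 3)⁻¹ with hv'
      have hv'V : v' ∈ V := hVn.conj_mem v hv _
      have hvv : v * v = 1 := by rw [← pow_two]; exact hv.2.2
      have hv'v' : v' * v' = 1 := by rw [← pow_two]; exact hv'V.2.2
      have hu2 : (v * c ^ 3) ^ 2 = v * v' := by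
        calc (v * c ^ 3) ^ 2 = v * (c ^ 3 * v * (c ^ 3)⁻¹) * c ^ 6 := by
              rw [pow_two]; group
          _ = v * v' := by rw [hcpow, mul_one]
      have hu4 : (v * c ^ 3) ^ 4 = 1 := by
        rw [show 4 = 2 * 2 by norm_num, pow_mul, hu2, pow_two]
        calc v * v' * (v * v') = v * (v' * v) * v' := by group
          _ = v * (v * v') * v' := by rw [hv.2.1 v' hv'V.1]
          _ = (v * v) * (v' * v') := by group
          _ = 1 := by rw [hvv, hv'v', one_mul]
      have hu4' : orderOf (v * c ^ 3) = 4 := by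
        have h1 : orderOf (v * c ^ 3) = 2 ^ (1 + 1) := by
          apply orderOf_eq_prime_pow
          · rw [pow_one, hu2]
            intro h1
            apply hv3
            calc v' = (v * v) * v' := by rw [hvv, one_mul]
              _ = v * (v * v') := by group
              _ = v := by rw [h1, mul_one]
          · exact hu4
        exact h1
      have hc2 : orderOf (c ^ 2) = 3 := by
        rw [orderOf_pow_of_dvd (by norm_num) (by rw [hc6]; norm_num), hc6]
      apply no_twelve hΩ hc2 hu4'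
      calc c ^ 2 * (v * c ^ 3) = (c ^ 2 * v * (c ^ 2)⁻¹) * c ^ 5 := by group
        _ = v * c ^ 3 * c ^ 2 := by rw [hv2]; group
    · exact absurd (hordny 6 (by rw [h]; exact zm59)) (zm6 _ hmemny)
    · exact absurd (hordny 7 (by rw [h]; exact zm89)) (zm7 _ hmemny)

end Cfsg.Agent.H220.Spec
end

private theorem dce_2dbf867ed1f7 : _root_.True := by
  try have : _root_.True := by simp only [_root_.Cfsg.Agent.H220.LieThirteen.P.eq_1]
  try have : _root_.True := by simp only [_root_.Cfsg.Agent.H220.ConjRep.act.congr_simp]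
  exact _root_.True.intro
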